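import Cfsg.Agent.Lib.GrossTwoLength.Reduction

/-!
# A chief factor with zero cyclic sums

For a chief factor `X / Y` below a normal 2-subgroup on which all 2-elements `x` satisfy
`(w x) ^ 2 ^ f ≡ x ^ 2 ^ f`, the group modulo the kernel is a faithful group in characteristic two with
`O_2 = 1`, exponent `2 ^ f` and zero cyclic sums.
-/

set_option autoImplicit false
set_option linter.unusedSectionVars false
set_option linter.style.haveILetI false

namespace Cfsg.Agent.TwoLengthExponent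

open Subgroup GrossTwoLength

universe u

/-- The algebraic closure of the field with two elements. -/
abbrev K2 : Type := AlgebraicClosure (ZMod 2)

/-- Faithful in characteristic two, `O_2 = 1`, exponent `2 ^ e`, zero cyclic sums. -/
def IsConfig (M : Type u) [Group M] (e : ℕ) : Prop :=
  ∃ (d : ℕ) (ρ : M →* Module.End K2 (Fin d → K2)),
    (∀ m : M, ρ m = 1 → m = 1) ∧ pCore 2 M = ⊥ ∧
      ∀ (x : M) (n : ℕ), x ^ 2 ^ n = 1 → x ^ 2 ^ e = 1 ∧ CyclicSumZero ρ x e ⊤

variable {Γ : Type u} [Group Γ] [Finite Γ]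

/-- A chief factor below `U` on which the `2 ^ f`-th powers of the 2-elements are constant. -/
structure IsSumFactor (U : Subgroup Γ) (f : ℕ) (X Y : Subgroup Γ) : Prop where
  normalX : X.Normal
  normalY : Y.Normal
  lt : Y < X
  le : X ≤ U
  chief : ∀ Z : Subgroup Γ, Z.Normal → Y ≤ Z → Z ≤ X → Z = Y ∨ Z = X
  sum : ∀ w ∈ X, ∀ (x : Γ) (n : ℕ), x ^ 2 ^ n = 1 → (w * x) ^ 2 ^ f * (x ^ 2 ^ f)⁻¹ ∈ Y

/-- The group modulo the kernel of a factor. -/
theorem IsSumFactor.exists_config {U : Subgroup Γ} [hUn : U.Normal] (hU : IsPGroup 2 U) {f : ℕ}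
    (hpow : ∀ (x : Γ) (n : ℕ), x ^ 2 ^ n = 1 → x ^ 2 ^ f ∈ U) {X Y : Subgroup Γ}
    (hF : IsSumFactor U f X Y) :
    ∃ (C : Subgroup Γ) (_ : C.Normal), (∀ g ∈ C, ∀ w ∈ X, g * w * g⁻¹ * w⁻¹ ∈ Y) ∧
      IsConfig (Γ ⧸ C) f := by
  classical
  haveI : Fact (Nat.Prime 2) := ⟨Nat.prime_two⟩
  haveI hXn := hF.normalX
  haveI hYn := hF.normalY
  set q := QuotientGroup.mk' Y with hq
  have hqs : Function.Surjective q := QuotientGroup.mk'_surjective Y
  set V := X.map q with hV
  haveI hVn : V.Normal := hXn.map q hqs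
  have hV2 : IsPGroup 2 V := (hU.to_le hF.le).map q
  have hmemY : ∀ w, q w = 1 ↔ w ∈ Y := fun w => QuotientGroup.eq_one_iff w
  -- normal subgroups of the quotient inside `V`
  have hchief : ∀ W : Subgroup (Γ ⧸ Y), W.Normal → W ≤ V → W = ⊥ ∨ W = V := by
    intro W hW hWV
    haveI := hW
    have h1 : Y ≤ W.comap q := fun y hy => by
      show q y ∈ W
      rw [(hmemY y).2 hy]; exact one_mem W
    have h2 : W.comap q ≤ X := fun w hw => by
      obtain ⟨w', hw', e⟩ := hWV hw
      have h : w'⁻¹ * w ∈ Y := (hmemY _).1 (by rw [map_mul, map_inv, e, inv_mul_cancel])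
      have := mul_mem hw' (hF.lt.le h)
      rwa [mul_inv_cancel_left] at this
    rcases hF.chief _ (hW.comap q) h1 h2 with h | h
    · left
      rw [← map_comap_eq_self_of_surjective hqs W, h, eq_bot_iff]
      rintro _ ⟨y, hy, rfl⟩
      exact (hmemY y).2 hy
    · right
      rw [← map_comap_eq_self_of_surjective hqs W, h]
  have hVne : V ≠ ⊥ := by
    intro h
    refine hF.lt.not_ge fun w hw => (hmemY w).1 ?_
    have : q w ∈ V := mem_map_of_mem q hw
    rwa [h, mem_bot] at this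
  haveI : Group.IsNilpotent V := hV2.isNilpotent
  have hVnt : Nontrivial V := (nontrivial_iff_ne_bot V).2 hVne
  -- elementary abelian
  have hlt : ⁅V, V⁆ < V := by
    have h1 := Group.IsSolvable.commutator_lt_top_of_nontrivial (G := V)
    rw [← map_subtype_commutator]
    conv_rhs => rw [← range_subtype V, MonoidHom.range_eq_map]
    exact (map_lt_map_iff_of_injective V.subtype_injective).2 h1
  have hVV : ⁅V, V⁆ = ⊥ := (hchief _ inferInstance hlt.le).resolve_right hlt.ne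
  have hcomm : ∀ a b : Γ ⧸ Y, a ∈ V → b ∈ V → a * b = b * a := fun a b ha hb => by
    rw [← commutatorElement_eq_one_iff_mul_comm]
    have := commutator_mem_commutator ha hb
    rwa [hVV, mem_bot] at this
  letI : CommGroup V := { (inferInstance : Group V) with
    mul_comm := fun a b => Subtype.ext (hcomm _ _ a.2 b.2) }
  have hexp : ∀ w : V, w ^ 2 = 1 := by
    let Ω : Subgroup (Γ ⧸ Y) :=
      { carrier := {a | a ∈ V ∧ a * a = 1}
        one_mem' := ⟨one_mem V, one_mul 1⟩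
        mul_mem' := fun {a b} ha hb => ⟨mul_mem ha.1 hb.1, by
          rw [show a * b * (a * b) = a * (b * a) * b by group, hcomm b a hb.1 ha.1,
            show a * (a * b) * b = a * a * (b * b) by group, ha.2, hb.2, one_mul]⟩
        inv_mem' := fun {a} ha => ⟨inv_mem ha.1, by rw [← mul_inv_rev, ha.2, inv_one]⟩ }
    haveI hΩn : Ω.Normal := ⟨fun a ha g => ⟨hVn.conj_mem a ha.1 g, by
      rw [show g * a * g⁻¹ * (g * a * g⁻¹) = g * (a * a) * g⁻¹ by group, ha.2, mul_one,
        mul_inv_cancel]⟩⟩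
    rcases hchief Ω hΩn (fun a ha => ha.1) with h | h
    · exfalso
      obtain ⟨a, ha, hca⟩ := hV2.nontrivial_iff_card.1 hVnt
      obtain ⟨w, hw⟩ := exists_prime_orderOf_dvd_card' 2 (G := V) (hca ▸ dvd_pow_self 2 ha.ne')
      have hwΩ : (w : Γ ⧸ Y) ∈ Ω := ⟨w.2, by
        rw [← Subgroup.coe_mul, ← pow_two, ← hw, pow_orderOf_eq_one]; rfl⟩
      rw [h, mem_bot] at hwΩ
      rw [show w = 1 from Subtype.ext hwΩ, orderOf_one] at hw
      exact absurd hw (by norm_num)
    · intro w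
      have hw : (w : Γ ⧸ Y) ∈ Ω := h.ge w.2
      exact Subtype.ext (by rw [SubmonoidClass.coe_pow, pow_two]; exact hw.2)
  obtain ⟨d, R, hR⟩ := FittingHeight.exists_endRepresentation (V := Additive V) 2 (fun w => by
    show Additive.ofMul (Additive.toMul w ^ 2) = 0
    rw [hexp]
    rfl)
  let toEnd : MulAut V →* AddMonoid.End (Additive V) :=
    { toFun := fun a => MonoidHom.toAdditive a.toMonoidHom
      map_one' := AddMonoidHom.ext fun _ => rfl
      map_mul' := fun _ _ => AddMonoidHom.ext fun _ => rfl }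
  let act : Γ →* MulAut V := (MulAut.conjNormal (H := V)).comp q
  have hact : ∀ (g : Γ) (w : V), ((act g w : V) : Γ ⧸ Y) = q g * w * (q g)⁻¹ := fun g w => rfl
  set C := act.ker with hC
  let actM : Γ ⧸ C →* MulAut V := QuotientGroup.lift C act fun g hg => hg
  let ρ : Γ ⧸ C →* Module.End K2 (Fin d → K2) := R.toMonoidHom.comp (toEnd.comp actM)
  have hfaith : ∀ m : Γ ⧸ C, ρ m = 1 → m = 1 := by
    intro m hm
    induction m using QuotientGroup.induction_on with | _ g => ?_
    have h1 : toEnd (act g) = 1 := hR (hm.trans (map_one R).symm)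
    rw [QuotientGroup.eq_one_iff]
    refine MulEquiv.ext fun w => ?_
    exact congrArg Additive.toMul (DFunLike.congr_fun h1 (Additive.ofMul w))
  have hcore : pCore 2 (Γ ⧸ C) = ⊥ := by
    set D := pCore 2 (Γ ⧸ C) with hD
    haveI hDn : D.Normal := PCore.pCore_normal
    let W : Subgroup (Γ ⧸ Y) :=
      { carrier := {a | ∃ ha : a ∈ V, ∀ m ∈ D, actM m ⟨a, ha⟩ = ⟨a, ha⟩}
        one_mem' := ⟨one_mem V, fun m _ => map_one (actM m)⟩
        mul_mem' := fun {a b} ⟨ha, ha'⟩ ⟨hb, hb'⟩ => ⟨mul_mem ha hb, fun m hm => by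
          rw [show (⟨a * b, mul_mem ha hb⟩ : V) = ⟨a, ha⟩ * ⟨b, hb⟩ from rfl, map_mul, ha' m hm,
            hb' m hm]⟩
        inv_mem' := fun {a} ⟨ha, ha'⟩ => ⟨inv_mem ha, fun m hm => by
          rw [show (⟨a⁻¹, inv_mem ha⟩ : V) = ⟨a, ha⟩⁻¹ from rfl, map_inv, ha' m hm]⟩ }
    have hWn : W.Normal := by
      refine ⟨?_⟩
      rintro a ⟨ha, ha'⟩ g'
      obtain ⟨g, rfl⟩ := hqs g'
      refine ⟨hVn.conj_mem a ha _, fun m hm => ?_⟩
      have e : (⟨q g * a * (q g)⁻¹, hVn.conj_mem a ha _⟩ : V) = actM (g : Γ ⧸ C) ⟨a, ha⟩ :=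
        Subtype.ext rfl
      have hm' : (g : Γ ⧸ C)⁻¹ * m * g ∈ D := by
        have := hDn.conj_mem m hm (g : Γ ⧸ C)⁻¹
        rwa [inv_inv] at this
      rw [e, ← MulAut.mul_apply, ← map_mul, show m * (g : Γ ⧸ C) = g * ((g : Γ ⧸ C)⁻¹ * m * g) by group,
        map_mul, MulAut.mul_apply, ha' _ hm']
    rcases hchief W hWn (fun a ha => ha.1) with h | h
    · exfalso
      letI : MulAction D V :=
        { smul := fun m v => actM (m : Γ ⧸ C) v
          one_smul := fun v => by show actM ((1 : D) : Γ ⧸ C) v = v; rw [OneMemClass.coe_one, map_one]; rfl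
          mul_smul := fun a b v => by
            show actM ((a * b : D) : Γ ⧸ C) v = actM (a : Γ ⧸ C) (actM (b : Γ ⧸ C) v)
            rw [Subgroup.coe_mul, map_mul]; rfl }
      obtain ⟨a, ha, hca⟩ := hV2.nontrivial_iff_card.1 hVnt
      obtain ⟨v, hv, hv0⟩ := (PCore.isPGroup_pCore (p := 2) (G := Γ ⧸ C)).exists_fixed_point_of_prime_dvd_card_of_fixed_point
        V (hca ▸ dvd_pow_self 2 ha.ne') (a := (1 : V)) (fun m => map_one (actM (m : Γ ⧸ C)))
      have hvW : (v : Γ ⧸ Y) ∈ W := ⟨v.2, fun m hm => hv ⟨m, hm⟩⟩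
      rw [h, mem_bot] at hvW
      exact hv0 (Subtype.ext hvW).symm
    · refine (eq_bot_iff_forall _).2 fun m hm => ?_
      induction m using QuotientGroup.induction_on with | _ g => ?_
      rw [QuotientGroup.eq_one_iff]
      refine MulEquiv.ext fun w => ?_
      obtain ⟨_, hw⟩ := (h.ge w.2 : (w : Γ ⧸ Y) ∈ W)
      exact hw _ hm
  have hUC : U ≤ C := by
    intro g hg
    have h1 : (U.map (QuotientGroup.mk' C)).Normal := hUn.map _ (QuotientGroup.mk'_surjective C)
    have h2 := PCore.le_pCore (hN := h1) (hU.map (QuotientGroup.mk' C)) (mem_map_of_mem _ hg)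
    rw [hcore, mem_bot] at h2
    exact (QuotientGroup.eq_one_iff g).1 h2
  refine ⟨C, inferInstance, fun g hg w hw => (hmemY _).1 ?_, d, ρ, hfaith, hcore, fun m n hm => ?_⟩
  · have h1 : act g ⟨q w, mem_map_of_mem q hw⟩ = ⟨q w, mem_map_of_mem q hw⟩ :=
      DFunLike.congr_fun (hg : act g = 1) _
    have h2 : q g * q w * (q g)⁻¹ = q w := congrArg Subtype.val h1
    rw [map_mul, map_mul, map_mul, map_inv, map_inv, h2, mul_inv_cancel]
  -- lift the 2-element
  obtain ⟨P, hP⟩ := (IsPGroup.iff_orderOf (p := 2) (G := zpowers m)).2 (fun z => by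
    obtain ⟨j, -, hj⟩ := (Nat.dvd_prime_pow Nat.prime_two).1
      ((Subgroup.orderOf_coe z).symm.dvd.trans
        ((orderOf_dvd_of_mem_zpowers z.2).trans (orderOf_dvd_of_pow_eq_one hm)))
    exact ⟨j, hj⟩) |>.exists_le_sylow
  obtain ⟨S, rfl⟩ := Sylow.mapSurjective_surjective (QuotientGroup.mk'_surjective C) 2 P
  obtain ⟨g, hgS, rfl⟩ := hP (mem_zpowers m)
  obtain ⟨a, ha⟩ := S.2 ⟨g, hgS⟩
  have hga : g ^ 2 ^ a = 1 := congrArg Subtype.val ha
  have hgf := hUC (hpow g a hga)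
  refine ⟨by rw [← map_pow]; exact (QuotientGroup.eq_one_iff _).2 hgf, fun v _ => ?_⟩
  have key : ∑ i ∈ Finset.range (2 ^ f), toEnd (act (g ^ i)) = 0 := by
    refine AddMonoidHom.ext fun z => ?_
    refine (AddMonoidHom.finsetSum_apply _ _ _).trans ?_
    show ∑ i ∈ Finset.range (2 ^ f), Additive.ofMul (act (g ^ i) (Additive.toMul z)) = 0
    rw [← ofMul_prod]
    refine Additive.toMul.injective ?_
    show ∏ i ∈ Finset.range (2 ^ f), act (g ^ i) (Additive.toMul z) = 1
    set w' : V := Additive.toMul z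
    have hid : ∀ n : ℕ, ((w' : Γ ⧸ Y) * q g) ^ n =
        ((∏ i ∈ Finset.range n, act (g ^ i) w' : V) : Γ ⧸ Y) * q g ^ n := by
      intro n
      induction n with
      | zero => simp
      | succ n ih =>
        rw [pow_succ, ih, Finset.prod_range_succ, Subgroup.coe_mul, hact, map_pow, pow_succ (q g)]
        simp only [mul_assoc, inv_mul_cancel_left]
    obtain ⟨o, ho, how⟩ := w'.2
    have h0 := (hmemY _).2 (hF.sum o ho g a hga)
    have h1 := hid (2 ^ f)
    rw [← how, ← map_mul, ← map_pow, ← map_pow q g] at h1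
    rw [map_mul, map_inv, mul_inv_eq_one] at h0
    rw [h0] at h1
    exact Subtype.ext (right_eq_mul.1 h1)
  have h2 : ∑ i ∈ Finset.range (2 ^ f), ρ ((g : Γ ⧸ C) ^ i) = 0 := by
    have : ∀ i : ℕ, ρ ((g : Γ ⧸ C) ^ i) = R (toEnd (act (g ^ i))) := fun i => by
      rw [← QuotientGroup.mk_pow]; rfl
    simp only [this]
    rw [← map_sum, key, map_zero]
  show ∑ i ∈ Finset.range (2 ^ f), ρ ((g : Γ ⧸ C) ^ i) v = 0
  rw [← LinearMap.sum_apply, h2, LinearMap.zero_apply]

end Cfsg.Agent.TwoLengthExponent
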