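import Cfsg.Agent.Lib.GrossTwoLength.Rotations

/-!
# Rotations normalising a 2-group which contains their involutions

Products of the involutions of two orthogonal rotations differing by an element of the group commute
with the involution of every rotation; an element `ψ` of the group with `(ψ y) ^ 2 ^ (d-1) = 1` forces
`τ_y` to commute with all of them.
-/

set_option autoImplicit false
set_option linter.unusedSectionVars false
set_option linter.style.haveILetI false

namespace Cfsg.Agent.TwoLengthExponent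

open Subgroup GrossTwoLength
open FittingHeight (Plane.Iso)

variable {q : ℕ} [Fact q.Prime] {V : Type*} [AddCommGroup V] [Module (ZMod q) V] [Finite V]
  {C : Type*} [AddCommGroup C] {β : V →+ V →+ C} {d : ℕ}

/-- The product of the involutions of two orthogonal rotations differing by an element of `U`. -/
theorem tau_commute_pair (G : Geo (q := q) β d) {U : Subgroup (Module.End (ZMod q) V)ˣ}
    (hU : IsPGroup 2 U) (hUi : ∀ g ∈ U, Plane.Iso β g) {y y2 z : (Module.End (ZMod q) V)ˣ}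
    (hy : IsRot β d y) (hy2rot : IsRot β d y2) (hz : IsRot β d z) (hzU : Conj z U)
    (hT_2 : ∀ x ∈ plane d y, tau d y2 • x = x) (h2_T : ∀ x ∈ plane d y2, tau d y • x = x)
    (hBU : y * y2⁻¹ ∈ U) : Commute (tau d z) (tau d y * tau d y2) := by
  have hyy2 : Commute y y2 := IsRot.comm_of_orth G hy hy2rot hT_2 h2_T
  set ε := tau d y * tau d y2 with hε
  set B := y * y2⁻¹ with hB
  have hBi : ∀ i : ℕ, IsRot β d (B ^ i * z * (B ^ i)⁻¹) := fun i => hz.conj (hUi _ (pow_mem hBU i))
  have hzz : IsPGroup 2 (U ⊔ zpowers z : Subgroup _) := isPGroup_sup_zpowers hU hzU hz.pow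
  have hzi := iso_sup_zpowers hUi hz.iso
  have hzmem : ∀ i : ℕ, B ^ i * z * (B ^ i)⁻¹ ∈ U ⊔ zpowers z := fun i =>
    mul_mem (mul_mem (mem_sup_left (pow_mem hBU i)) (mem_sup_right (mem_zpowers z)))
      (inv_mem (mem_sup_left (pow_mem hBU i)))
  have htB : ∀ i : ℕ, tau d (B ^ i * z * (B ^ i)⁻¹) = B ^ i * tau d z * (B ^ i)⁻¹ :=
    fun i => conj_pow ..
  have hεB : ε = B ^ 2 ^ (d - 1) := by
    rw [hε, hB, hyy2.inv_right.mul_pow, inv_pow]
    exact congrArg _ (hy2rot.tau_inv G).symm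
  rw [hεB, show 2 ^ (d - 1) = 2 * 2 ^ (d - 2) by
    rw [← pow_succ']; congr 1; have := G.two_le; omega, pow_mul]
  refine Commute.pow_right ?_ _
  by_contra hB2
  have hnot : ∀ i, i = 1 ∨ i = 2 ∨ i = 3 → ¬ Commute (tau d z) (B ^ i) := by
    rintro i (rfl | rfl | rfl) h
    · exact hB2 (by rw [pow_one] at h; exact h.pow_right 2)
    · exact hB2 h
    · refine hB2 ?_
      obtain ⟨m, hm⟩ := hU ⟨B, hBU⟩
      have hco : Nat.Coprime 3 (orderOf B) :=
        (Nat.Coprime.pow_right m (by norm_num : Nat.Coprime 3 2)).coprime_dvd_right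
          (orderOf_dvd_of_pow_eq_one (congrArg Subtype.val hm))
      obtain ⟨j, hj⟩ := exists_pow_eq_self_of_coprime hco
      have := (h.pow_right j).pow_right 2
      rwa [hj] at this
  have horth : ∀ i, i = 1 ∨ i = 2 ∨ i = 3 → ∀ s ∈ plane d z, ∀ t ∈ plane d z,
      β s (B ^ i • t) = 0 := by
    intro i hi s hs t ht
    rcases IsRot.eq_or_orth G hzz hzi (by simpa using hzmem 0) (hzmem i) hz (hBi i) with h | ⟨-, h⟩
    · rw [htB] at h
      exact absurd (show Commute (tau d z) (B ^ i) from (eq_mul_inv_iff_mul_eq.1 h)) (hnot i hi)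
    · exact hz.orth G hs (h _ (IsRot.mem_plane_conj (B ^ i) ht))
  -- four orthogonal planes in a space of order at most `q ^ 6`
  let W : Submodule (ZMod q) V := plane d z ⊔ (plane d y ⊔ plane d y2)
  have hBE : ∀ w, B • w - w ∈ plane d y ⊔ plane d y2 := fun w => by
    have e : B • w - w = (y • (y2⁻¹ • w) - y2⁻¹ • w) - (y2 • (y2⁻¹ • w) - y2⁻¹ • w) := by
      rw [hB, mul_smul, smul_inv_smul]; abel
    rw [e]
    exact sub_mem (Submodule.mem_sup_left (hy.smul_sub_mem G _))
      (Submodule.mem_sup_right (hy2rot.smul_sub_mem G _))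
  have hBW : ∀ (i : ℕ), ∀ t ∈ plane d z, B ^ i • t ∈ W := by
    intro i t ht
    induction i with
    | zero => rw [pow_zero, one_smul]; exact Submodule.mem_sup_left ht
    | succ i ih =>
      rw [pow_succ', mul_smul, ← sub_add_cancel (B • B ^ i • t) (B ^ i • t)]
      exact add_mem (Submodule.mem_sup_right (hBE _)) ih
  let P := plane d z
  let F : P × P × P × P → W := fun p => ⟨(p.1 : V) + B ^ 1 • (p.2.1 : V) + B ^ 2 • (p.2.2.1 : V) +
    B ^ 3 • (p.2.2.2 : V), add_mem (add_mem (add_mem (Submodule.mem_sup_left p.1.2)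
      (hBW 1 _ p.2.1.2)) (hBW 2 _ p.2.2.1.2)) (hBW 3 _ p.2.2.2.2)⟩
  have hoff : ∀ i j : ℕ, i < 4 → j < 4 → i ≠ j → ∀ s ∈ P, ∀ t ∈ P,
      β (B ^ i • s) (B ^ j • t) = 0 := by
    have hlt : ∀ i j : ℕ, j < 4 → i < j → ∀ s ∈ P, ∀ t ∈ P,
        β (B ^ i • s) (B ^ j • t) = 0 := fun i j hj hij s hs t ht => by
      rw [show B ^ j • t = B ^ i • B ^ (j - i) • t by
        rw [smul_smul, ← pow_add, Nat.add_sub_cancel' hij.le],
        show β (B ^ i • s) (B ^ i • B ^ (j - i) • t) = β s (B ^ (j - i) • t) from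
          hUi _ (pow_mem hBU i) s _]
      exact horth _ (by omega) s hs t ht
    intro i j hi hj hij s hs t ht
    rcases hij.lt_or_gt with h | h
    · exact hlt i j hj h s hs t ht
    · exact G.skew_zero (hlt j i hi h t ht s hs)
  have hdiag : ∀ i : ℕ, ∀ s t : V, β (B ^ i • s) (B ^ i • t) = β s t := fun i s t =>
    hUi _ (pow_mem hBU i) s t
  have hsub : ∀ a b c e : V, a ∈ P → b ∈ P → c ∈ P → e ∈ P →
      B ^ 0 • a + B ^ 1 • b + B ^ 2 • c + B ^ 3 • e = 0 → a = 0 ∧ b = 0 ∧ c = 0 ∧ e = 0 := by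
    intro a b c e ha hb' hc' he h0
    have key : ∀ i : ℕ, ∀ s, β (B ^ i • s) (B ^ 0 • a) + β (B ^ i • s) (B ^ 1 • b) +
        β (B ^ i • s) (B ^ 2 • c) + β (B ^ i • s) (B ^ 3 • e) = 0 := fun i s => by
      rw [← map_add, ← map_add, ← map_add, h0, map_zero]
    refine ⟨hz.nondeg G ha fun s hs => ?_, hz.nondeg G hb' fun s hs => ?_,
      hz.nondeg G hc' fun s hs => ?_, hz.nondeg G he fun s hs => ?_⟩
    · have := key 0 s
      rwa [hoff 0 1 (by omega) (by omega) (by omega) s hs b hb',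
        hoff 0 2 (by omega) (by omega) (by omega) s hs c hc',
        hoff 0 3 (by omega) (by omega) (by omega) s hs e he, add_zero, add_zero, add_zero,
        hdiag] at this
    · have := key 1 s
      rwa [hoff 1 0 (by omega) (by omega) (by omega) s hs a ha,
        hoff 1 2 (by omega) (by omega) (by omega) s hs c hc',
        hoff 1 3 (by omega) (by omega) (by omega) s hs e he, add_zero, add_zero, zero_add,
        hdiag] at this
    · have := key 2 s
      rwa [hoff 2 0 (by omega) (by omega) (by omega) s hs a ha,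
        hoff 2 1 (by omega) (by omega) (by omega) s hs b hb',
        hoff 2 3 (by omega) (by omega) (by omega) s hs e he, add_zero, zero_add, zero_add,
        hdiag] at this
    · have := key 3 s
      rwa [hoff 3 0 (by omega) (by omega) (by omega) s hs a ha,
        hoff 3 1 (by omega) (by omega) (by omega) s hs b hb',
        hoff 3 2 (by omega) (by omega) (by omega) s hs c hc', zero_add, zero_add, zero_add,
        hdiag] at this
  have hF : Function.Injective F := by
    rintro ⟨a, b', c', e⟩ ⟨a', b'', c'', e'⟩ hab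
    have h0 := congrArg Subtype.val hab
    obtain ⟨e1, e2, e3, e4⟩ := hsub _ _ _ _ (a - a').2 (b' - b'').2 (c' - c'').2 (e - e').2 (by
      simp only [Submodule.coe_sub, pow_zero, one_smul, smul_sub]
      rw [← sub_eq_zero] at h0
      simp only [F] at h0
      linear_combination (norm := abel) h0)
    rw [Submodule.coe_eq_zero, sub_eq_zero] at e1 e2 e3 e4
    rw [e1, e2, e3, e4]
  have hle := Nat.card_le_card_of_injective F hF
  rw [Nat.card_prod, Nat.card_prod, Nat.card_prod] at hle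
  have hsupcard : ∀ A A' : Submodule (ZMod q) V, Nat.card (A ⊔ A' : Submodule (ZMod q) V) ≤
      Nat.card A * Nat.card A' := fun A A' => by
    rw [← Nat.card_prod]
    refine Nat.card_le_card_of_surjective (fun p : A × A' => (⟨(p.1 : V) + p.2,
      add_mem (Submodule.mem_sup_left p.1.2) (Submodule.mem_sup_right p.2.2)⟩ : (A ⊔ A' : Submodule _ V))) ?_
    rintro ⟨w, hw⟩
    obtain ⟨a, ha, a', ha', rfl⟩ := Submodule.mem_sup.1 hw
    exact ⟨⟨⟨a, ha⟩, ⟨a', ha'⟩⟩, rfl⟩
  have hW := (hsupcard (plane d z) (plane d y ⊔ plane d y2)).trans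
    (Nat.mul_le_mul_left _ (hsupcard (plane d y) (plane d y2)))
  rw [hz.card, hy.card, hy2rot.card] at hW
  rw [hz.card] at hle
  have h86 := hle.trans hW
  have hq : 1 < q := (Fact.out : q.Prime).one_lt
  rw [← pow_add, ← pow_add, ← pow_add] at h86
  have := (Nat.pow_le_pow_iff_right hq).1 (le_trans (le_of_eq (by ring)) h86 : q ^ 8 ≤ q ^ 6)
  omega

theorem smul_mem_plane_of_commute {y g : (Module.End (ZMod q) V)ˣ} (h : Commute g (tau d y)) {x : V}
    (hx : x ∈ plane d y) : g • x ∈ plane d y := by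
  rw [mem_plane, smul_smul, ← h.eq, mul_smul, mem_plane.1 hx, smul_neg]

/-- An involution preserving the plane of a rotation is a sign on it. -/
theorem exists_sign (G : Geo (q := q) β d) {y g : (Module.End (ZMod q) V)ˣ} (hy : IsRot β d y)
    (hg : Plane.Iso β g) (hg2 : g * g = 1) (hgT : ∀ x ∈ plane d y, g • x ∈ plane d y) :
    ∃ a : ZMod q, a * a = 1 ∧ ∀ x ∈ plane d y, g • x = a • x := by
  have hg1 : g ^ 2 ^ 1 = 1 := by rw [pow_one, pow_two, hg2]
  by_cases h : ∃ x ∈ plane d y, x ≠ 0 ∧ g • x = x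
  · obtain ⟨x, hx, hx0, hgx⟩ := h
    exact ⟨1, one_mul 1, fun w hw => by rw [one_smul, hy.fix_plane G hg hgT hg1 hx hx0 hgx hw]⟩
  · push Not at h
    refine ⟨-1, by rw [neg_one_mul, neg_neg], fun x hx => ?_⟩
    rw [neg_one_smul, ← add_eq_zero_iff_eq_neg]
    by_contra h0
    refine h _ (add_mem (hgT x hx) hx) h0 ?_
    rw [smul_add, smul_smul, hg2, one_smul, add_comm]

/-- An involution commuting with `τ_y` commutes with `y`. -/
theorem commute_rot (G : Geo (q := q) β d) {y g : (Module.End (ZMod q) V)ˣ} (hy : IsRot β d y)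
    (hg : Plane.Iso β g) (hg2 : g * g = 1) (h : Commute g (tau d y)) : Commute g y := by
  obtain ⟨a, -, ha⟩ := exists_sign G hy hg hg2 fun x hx => smul_mem_plane_of_commute h hx
  refine Units.ext (LinearMap.ext fun v => ?_)
  show (g * y) • v = (y * g) • v
  obtain ⟨t, ht, f, hf, rfl⟩ := hy.decomp G v
  have hgf : y • g • f = g • f := hy.fix _ (by rw [smul_smul, ← h.eq, mul_smul, hf])
  simp only [mul_smul, smul_add, ha _ ht, ha _ (hy.smul_mem ht), smul_zmod, hy.fix f hf, hgf]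

/-- The conjugates under `U` of the involution of a rotation commute with it. -/
theorem tau_conj_commute (G : Geo (q := q) β d) {U : Subgroup (Module.End (ZMod q) V)ˣ}
    (hU : IsPGroup 2 U) (hUi : ∀ g ∈ U, Plane.Iso β g) {z w : (Module.End (ZMod q) V)ˣ}
    (hz : IsRot β d z) (hzU : Conj z U) (hw : w ∈ U) :
    Commute (w * tau d z * w⁻¹) (tau d z) := by
  have hzz := isPGroup_sup_zpowers hU hzU hz.pow
  have hzi := iso_sup_zpowers hUi hz.iso
  have hz2 : IsRot β d (w * z * w⁻¹) := hz.conj (hUi w hw)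
  have htw : tau d (w * z * w⁻¹) = w * tau d z * w⁻¹ := conj_pow ..
  have hzm : z ∈ U ⊔ zpowers z := mem_sup_right (mem_zpowers z)
  rcases IsRot.eq_or_orth G hzz hzi hzm
    (mul_mem (mul_mem (mem_sup_left hw) hzm) (inv_mem (mem_sup_left hw))) hz hz2 with h | ⟨h, h'⟩
  · rw [← htw, ← h]
  · rw [← htw]
    have hcm : Commute z (w * z * w⁻¹) := IsRot.comm_of_orth G hz hz2 h h'
    exact (hcm.pow_pow _ _).symm

section Moved

variable {U : Subgroup (Module.End (ZMod q) V)ˣ} {y z : (Module.End (ZMod q) V)ˣ}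
  (G : Geo (q := q) β d) (hU : IsPGroup 2 U) (hUi : ∀ g ∈ U, Plane.Iso β g)
  (hy : IsRot β d y) (hyU : Conj y U) (hz : IsRot β d z) (hzU : Conj z U) (htU : tau d z ∈ U)
  (hne : ¬ Commute (tau d y) (tau d z))

include G hU hUi hy hyU hz hzU htU hne

/-- The conjugate of `y` by `τ_z` is orthogonal to `y`. -/
theorem conj_tau_orth :
    (∀ x ∈ plane d y, tau d (tau d z * y * (tau d z)⁻¹) • x = x) ∧
      ∀ x ∈ plane d (tau d z * y * (tau d z)⁻¹), tau d y • x = x := by
  have hyy := isPGroup_sup_zpowers hU hyU hy.pow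
  have hyi := iso_sup_zpowers hUi hy.iso
  have hym : y ∈ U ⊔ zpowers y := mem_sup_right (mem_zpowers y)
  refine (IsRot.eq_or_orth G hyy hyi hym (mul_mem (mul_mem (mem_sup_left htU) hym)
    (inv_mem (mem_sup_left htU))) hy (hy.conj (hUi _ htU))).resolve_left fun h => hne ?_
  have h' : tau d y = tau d z * tau d y * (tau d z)⁻¹ := h.trans (conj_pow ..)
  exact eq_mul_inv_iff_mul_eq.1 h'

/-- An element of `U` fixes or exchanges the two planes. -/
theorem conj_tau_cases {w : (Module.End (ZMod q) V)ˣ} (hw : w ∈ U) :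
    w * tau d y * w⁻¹ = tau d y ∨ w * tau d y * w⁻¹ = tau d z * tau d y * (tau d z)⁻¹ := by
  have hyy := isPGroup_sup_zpowers hU hyU hy.pow
  have hyi := iso_sup_zpowers hUi hy.iso
  have hym : y ∈ U ⊔ zpowers y := mem_sup_right (mem_zpowers y)
  have hy2 : IsRot β d (tau d z * y * (tau d z)⁻¹) := hy.conj (hUi _ htU)
  have hy3 : IsRot β d (w * y * w⁻¹) := hy.conj (hUi w hw)
  have e2 : tau d (tau d z * y * (tau d z)⁻¹) = tau d z * tau d y * (tau d z)⁻¹ := conj_pow ..
  have e3 : tau d (w * y * w⁻¹) = w * tau d y * w⁻¹ := conj_pow ..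
  rw [← e2, ← e3]
  rcases IsRot.eq_or_orth G hyy hyi hym
    (mul_mem (mul_mem (mem_sup_left hw) hym) (inv_mem (mem_sup_left hw))) hy hy3 with h | ⟨h, h'⟩
  · exact Or.inl h.symm
  refine Or.inr ?_
  have hB : y * (w * y * w⁻¹)⁻¹ ∈ U := by
    rw [show y * (w * y * w⁻¹)⁻¹ = y * w * y⁻¹ * w⁻¹ by group]
    exact mul_mem (hyU w hw) (inv_mem hw)
  have hc := tau_commute_pair G hU hUi hy hy3 hz hzU h h' hB
  refine (IsRot.tau_eq_of_le G hy2 hy3 fun x hx => mem_plane.2 ?_).symm
  obtain ⟨hT, h2T⟩ := conj_tau_orth G hU hUi hy hyU hz hzU htU hne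
  have hp : (tau d z)⁻¹ • x ∈ plane d y := by
    rw [mem_plane, e2, mul_smul, mul_smul, smul_eq_iff_eq_inv_smul, smul_neg] at hx
    exact mem_plane.2 hx
  have hneg : (tau d y * tau d (w * y * w⁻¹)) • x = -x := by
    have h2 : (tau d y * tau d (w * y * w⁻¹)) • (tau d z)⁻¹ • x = -((tau d z)⁻¹ • x) := by
      rw [mul_smul, h _ hp, mem_plane.1 hp]
    rw [← smul_neg, smul_smul, (hc.inv_left).symm.eq, mul_smul] at h2
    exact smul_left_cancel _ h2
  rw [mul_smul, smul_eq_iff_eq_inv_smul, hy.tau_inv G, smul_neg, h2T x hx] at hneg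
  exact hneg

/-- Non-commuting involutions: `d = 2`. -/
theorem d_eq_two : d = 2 := by
  by_contra hd
  obtain ⟨hT, h2T⟩ := conj_tau_orth G hU hUi hy hyU hz hzU htU hne
  obtain ⟨p, hp, hp0⟩ := hy.exists_ne
  set t := tau d z with ht
  have htinv : t⁻¹ = t := hz.tau_inv G
  have htt : ∀ v : V, t • t • v = v := fun v => by rw [smul_smul, hz.tau_sq G, one_smul]
  set y2 := t * y * t⁻¹ with hy2d
  have hy2 : IsRot β d y2 := hy.conj (hUi _ htU)
  have hfix2 : ∀ x ∈ plane d y, y2 • x = x := fun x hx => hy2.fix x (hT x hx)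
  have hfix1 : ∀ x ∈ plane d y, y • t • x = t • x := fun x hx =>
    hy.fix _ (h2T _ (IsRot.mem_plane_conj t hx))
  have hy2t : ∀ v : V, y2 • t • v = t • y • v := fun v => by
    rw [hy2d, mul_smul, mul_smul, inv_smul_smul]
  have hfix2' : ∀ x ∈ plane d y, y2⁻¹ • x = x := fun x hx => inv_smul_eq_iff.2 (hfix2 x hx).symm
  have hfix1' : ∀ x ∈ plane d y, y⁻¹ • t • x = t • x := fun x hx =>
    inv_smul_eq_iff.2 (hfix1 x hx).symm
  have hy2t' : ∀ v : V, y2⁻¹ • t • v = t • y⁻¹ • v := fun v => by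
    rw [inv_smul_eq_iff, hy2t, smul_inv_smul]
  have hyi' : ∀ x ∈ plane d y, y⁻¹ • x ∈ plane d y := fun x hx =>
    smul_mem_plane_of_commute (Commute.self_pow y _).inv_left hx
  have hwU : y * y2⁻¹ ∈ U := by
    rw [hy2d, show y * (t * y * t⁻¹)⁻¹ = y * t * y⁻¹ * t⁻¹ by group]
    exact mul_mem (hyU t htU) (inv_mem htU)
  set w := y * y2⁻¹ with hw
  have hc := tau_conj_commute G hU hUi hz hzU hwU
  rw [← ht] at hc
  have e1 : ∀ v : V, w⁻¹ • v = y2 • y⁻¹ • v := fun v => by
    rw [hw, mul_inv_rev, inv_inv, mul_smul]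
  have eA : (w * t * w⁻¹) • p = t • y⁻¹ • y⁻¹ • p := by
    rw [mul_smul, mul_smul, e1, hfix2 _ (hyi' p hp), hw, mul_smul, hy2t',
      hfix1 _ (hyi' _ (hyi' p hp))]
  have eB : (w * t * w⁻¹) • t • p = y • y • p := by
    rw [mul_smul, mul_smul, e1, hfix1' p hp, hy2t, htt, hw, mul_smul,
      hfix2' _ (hy.smul_mem hp)]
  have hX : y • y • p = y⁻¹ • y⁻¹ • p := by
    rw [← eB, smul_smul, hc.eq, mul_smul, eA, htt]
  have h4 : y ^ 4 • p = p := by
    rw [show y ^ 4 = y * (y * (y * y)) by simp only [pow_succ, pow_zero, one_mul, mul_assoc],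
      mul_smul, mul_smul, mul_smul, hX, smul_inv_smul, smul_inv_smul]
  refine hp0 (hy.disjoint G hp ?_)
  have hd3 : 2 + (d - 3) = d - 1 := by have := G.two_le; omega
  show y ^ 2 ^ (d - 1) • p = p
  rw [← hd3, pow_add, pow_mul]
  exact MulAction.mem_stabilizer_iff.1 (pow_mem (MulAction.mem_stabilizer_iff.2 h4) _)

end Moved

/-- The trace of an isometry on the plane. -/
theorem exists_trace (G : Geo (q := q) β d) {y g : (Module.End (ZMod q) V)ˣ} (hy : IsRot β d y)
    (hg : Plane.Iso β g) (hgT : ∀ x ∈ plane d y, g • x ∈ plane d y)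
    (hgT' : ∀ x ∈ plane d y, g⁻¹ • x ∈ plane d y) :
    ∃ c : ZMod q, ∀ x ∈ plane d y, g • x + g⁻¹ • x = c • x := by
  set T := plane d y with hT
  let a : Module.End (ZMod q) T :=
    ((g : Module.End (ZMod q) V) + ((g⁻¹ : (Module.End (ZMod q) V)ˣ) : Module.End (ZMod q) V)).restrict
      fun x hx => add_mem (hgT x hx) (hgT' x hx)
  obtain ⟨c, hc⟩ := FittingHeight.Plane.scalar_of_eigen (V := T) hy.card a fun x => by
    by_cases hx0 : x = 0
    · rw [hx0, map_zero]; exact zero_mem _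
    have horth : β (x : V) (g • (x : V) + g⁻¹ • (x : V)) = 0 := by
      rw [map_add, show β (x : V) (g⁻¹ • (x : V)) = β (g • (x : V)) (g • g⁻¹ • (x : V)) from
        (hg _ _).symm, smul_inv_smul, G.skew (x : V), add_neg_cancel]
    obtain ⟨c, hc⟩ := hy.mem_span_of_orth G x.2 (fun e => hx0 (Subtype.ext e))
      (add_mem (hgT x x.2) (hgT' x x.2)) horth
    exact Submodule.mem_span_singleton.2 ⟨c, Subtype.ext hc.symm⟩
  exact ⟨c, fun x hx => congrArg Subtype.val (LinearMap.congr_fun hc ⟨x, hx⟩)⟩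

theorem zmod_three_cases : ∀ c : ZMod 3, c = 0 ∨ c = 1 ∨ c = -1 := by decide

/-- On a plane over a field of order three no isometry has a fourth power equal to `-1`. -/
theorem no_eighth (G : Geo (q := q) β d) (hq : q = 3) {y g : (Module.End (ZMod q) V)ˣ}
    (hy : IsRot β d y) (hg : Plane.Iso β g) (hgT : ∀ x ∈ plane d y, g • x ∈ plane d y)
    (hgT' : ∀ x ∈ plane d y, g⁻¹ • x ∈ plane d y) {x : V} (hx : x ∈ plane d y) (hx0 : x ≠ 0)
    (h : g • g • g • g • x = -x) : False := by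
  subst hq
  obtain ⟨c, hc⟩ := exists_trace G hy hg hgT hgT'
  have hrec : ∀ v ∈ plane d y, g • g • v = c • g • v - v := by
    intro v hv
    have e := hc _ (hgT v hv)
    rw [inv_smul_smul] at e
    exact eq_sub_of_add_eq e
  have h4 : g • g • g • g • x = x ∨ g • g • g • g • x = -(g • x) ∨
      g • g • g • g • x = g • x := by
    rcases zmod_three_cases c with rfl | rfl | rfl
    · left
      simp only [hrec _ hx, zero_smul, zero_sub, smul_neg, neg_neg]
    · right; left
      simp only [hrec _ hx, one_smul, smul_sub]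
      abel
    · right; right
      simp only [hrec _ hx, neg_one_smul, smul_sub, smul_neg]
      abel
  rcases h4 with e | e | e
  · rw [e] at h
    exact hx0 (two_smul_inj G.ne_two (eq_neg_iff_add_eq_zero.1 h))
  · rw [e, neg_inj] at h
    rw [h, h, h, h] at e
    exact hx0 (two_smul_inj G.ne_two (eq_neg_iff_add_eq_zero.1 e))
  · rw [e] at h
    rw [h, smul_neg, smul_neg, smul_neg, h, smul_neg, smul_neg, h, neg_neg, smul_neg, h, neg_neg] at e
    exact hx0 (two_smul_inj G.ne_two (eq_neg_iff_add_eq_zero.1 e))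

/-- If `(ψ y) ^ 2 ^ (d-1) = 1` with `ψ ∈ U` then `τ_y` commutes with `τ_z`. -/
theorem tau_commute_of_pow (G : Geo (q := q) β d) {U : Subgroup (Module.End (ZMod q) V)ˣ}
    (hU : IsPGroup 2 U) (hUi : ∀ g ∈ U, Plane.Iso β g) {y z ψ : (Module.End (ZMod q) V)ˣ}
    (hy : IsRot β d y) (hyU : Conj y U) (hz : IsRot β d z) (hzU : Conj z U) (htU : tau d z ∈ U)
    (hψ : ψ ∈ U) (hpow : (ψ * y) ^ 2 ^ (d - 1) = 1) : Commute (tau d y) (tau d z) := by
  by_contra hne
  obtain rfl := d_eq_two G hU hUi hy hyU hz hzU htU hne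
  have hq : q = 3 := by have := G.card_eq; omega
  set s := ψ * y with hs
  have hss : s * s = 1 := by simpa [pow_two] using hpow
  have hsi : Plane.Iso β s := (hUi _ hψ).mul hy.iso
  have hψy : ∀ v : V, ψ • v = s • y⁻¹ • v := fun v => by rw [hs, mul_smul, smul_inv_smul]
  have hψy' : ∀ v : V, ψ⁻¹ • v = y • s • v := fun v => by
    rw [inv_smul_eq_iff, ← mul_smul, ← hs, smul_smul, hss, one_smul]
  obtain ⟨hT, h2T⟩ := conj_tau_orth G hU hUi hy hyU hz hzU htU hne
  obtain ⟨p, hp, hp0⟩ := hy.exists_ne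
  set t := tau 2 z with ht
  have htt' : t * t = 1 := hz.tau_sq G
  have htt : ∀ v : V, t • t • v = v := fun v => by rw [smul_smul, htt', one_smul]
  have htinv : t⁻¹ = t := hz.tau_inv G
  set y2 := t * y * t⁻¹ with hy2d
  have hy2 : IsRot β 2 y2 := hy.conj (hUi _ htU)
  have he2 : tau 2 y2 = t * tau 2 y * t⁻¹ := conj_pow ..
  have hfix1 : ∀ x ∈ plane 2 y, y • t • x = t • x := fun x hx =>
    hy.fix _ (h2T _ (IsRot.mem_plane_conj t hx))
  have hfix1' : ∀ x ∈ plane 2 y, y⁻¹ • t • x = t • x := fun x hx =>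
    inv_smul_eq_iff.2 (hfix1 x hx).symm
  have hyT' : ∀ x ∈ plane 2 y, y⁻¹ • x ∈ plane 2 y := fun x hx =>
    smul_mem_plane_of_commute (Commute.self_pow y _).inv_left hx
  have hyt : Commute y (tau 2 y) := Commute.self_pow y _
  have hst : s * tau 2 y * s⁻¹ = ψ * tau 2 y * ψ⁻¹ := by
    rw [hs, show ψ * y * tau 2 y * (ψ * y)⁻¹ = ψ * (y * tau 2 y) * y⁻¹ * ψ⁻¹ by group, hyt.eq]
    group
  have hsH : s ∈ U ⊔ zpowers y := hs ▸ mul_mem (mem_sup_left hψ) (mem_sup_right (mem_zpowers y))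
  clear_value s
  have hXc := tau_conj_commute G hU hUi hz hzU hψ
  rw [← ht] at hXc
  -- `X = ψ t ψ⁻¹` commutes with `t`
  have hX : ∀ v : V, (ψ * t * ψ⁻¹) • t • v = t • (ψ * t * ψ⁻¹) • v := fun v => by
    rw [smul_smul, hXc.eq, mul_smul]
  rcases conj_tau_cases G hU hUi hy hyU hz hzU htU hne hψ with hcase | hcase
  · -- `s` fixes both planes
    have hs1 : Commute s (tau 2 y) := mul_inv_eq_iff_eq_mul.1 (hst.trans hcase)
    have hψ2 : Commute s (tau 2 y2) := by
      have hne' : ¬ Commute (tau 2 y2) t := fun h => hne (by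
        rw [he2] at h
        have h' : (t * tau 2 y * t⁻¹) * t = t * (t * tau 2 y * t⁻¹) := h.eq
        rw [inv_mul_cancel_right, ← mul_assoc, ← mul_assoc, htt', one_mul, htinv] at h'
        exact h'.symm)
      have hy2U : Conj y2 U := (Conj.mul (Conj.mul (fun u hu => mul_mem (mul_mem htU hu) (inv_mem htU))
        hyU) (fun u hu => mul_mem (mul_mem (inv_mem htU) hu) (inv_mem (inv_mem htU))))
      rcases conj_tau_cases G hU hUi hy2 hy2U hz hzU htU hne' hψ with h | h
      · refine mul_inv_eq_iff_eq_mul.1 (Eq.trans ?_ h)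
        have hy12 : Commute y (tau 2 y2) :=
          (show Commute y y2 from IsRot.comm_of_orth G hy hy2 hT h2T).pow_right _
        rw [hs, show ψ * y * tau 2 y2 * (ψ * y)⁻¹ = ψ * (y * tau 2 y2) * y⁻¹ * ψ⁻¹ by group,
          hy12.eq]
        group
      · exfalso
        rw [← ht, he2, show t * (t * tau 2 y * t⁻¹) * t⁻¹ = (t * t) * tau 2 y * (t * t)⁻¹ by group,
          htt', one_mul, inv_one, mul_one] at h
        have h' := h.trans hcase.symm
        rw [mul_left_inj, mul_right_inj] at h'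
        exact hne (mul_inv_eq_iff_eq_mul.1 h').symm
    obtain ⟨a, ha2, ha⟩ := exists_sign G hy hsi hss fun x hx => smul_mem_plane_of_commute hs1 hx
    obtain ⟨b, hb2, hb⟩ := exists_sign G hy2 hsi hss fun x hx => smul_mem_plane_of_commute hψ2 hx
    have hb' : ∀ x ∈ plane 2 y, s • t • x = b • t • x := fun x hx =>
      hb _ (IsRot.mem_plane_conj t hx)
    have eA : (ψ * t * ψ⁻¹) • p = (a * b) • t • y • p := by
      rw [mul_smul, mul_smul, hψy', ha p hp, smul_zmod y, smul_zmod t, smul_zmod ψ, hψy,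
        hfix1' _ (hy.smul_mem hp), hb' _ (hy.smul_mem hp), smul_smul]
    have eB : (ψ * t * ψ⁻¹) • t • p = (b * a) • y⁻¹ • p := by
      rw [mul_smul, mul_smul, hψy', hb' p hp, smul_zmod y, hfix1 p hp, smul_zmod t, htt,
        smul_zmod ψ, hψy, ha _ (hyT' p hp), smul_smul]
    have e := hX p
    rw [eA, eB, smul_zmod t, htt, mul_comm b a] at e
    have hab : a * b ≠ 0 := fun h0 => by
      have h1 : (a * b) * (a * b) = 1 := by rw [mul_mul_mul_comm, ha2, hb2, one_mul]
      rw [h0, zero_mul] at h1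
      exact zero_ne_one h1
    have e' : y⁻¹ • p = y • p := smul_right_injective _ hab e
    refine hp0 (hy.disjoint G hp ?_)
    show y ^ 2 ^ 1 • p = p
    rw [pow_one, pow_two, mul_smul, ← e', smul_inv_smul]
  · -- `s` exchanges them
    rw [← ht] at hcase
    set σ := t * s with hσ
    have hst2 : s * tau 2 y = t * tau 2 y * t⁻¹ * s := mul_inv_eq_iff_eq_mul.1 (hst.trans hcase)
    have hσ1 : σ * tau 2 y = tau 2 y * σ := by
      rw [hσ, mul_assoc, hst2, ← mul_assoc, ← mul_assoc, ← mul_assoc, htt', one_mul, htinv,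
        mul_assoc]
    have hσi : Plane.Iso β σ := (hUi _ htU).mul hsi
    have hσT : ∀ x ∈ plane 2 y, σ • x ∈ plane 2 y := fun x hx => smul_mem_plane_of_commute hσ1 hx
    have hσT' : ∀ x ∈ plane 2 y, σ⁻¹ • x ∈ plane 2 y := fun x hx =>
      smul_mem_plane_of_commute (show Commute σ (tau 2 y) from hσ1).inv_left hx
    have hyy := isPGroup_sup_zpowers hU hyU hy.pow
    have hym : y ∈ U ⊔ zpowers y := mem_sup_right (mem_zpowers y)
    have hnorm := IsRot.conj_eq_or_inv G hyy (iso_sup_zpowers hUi hy.iso) hy hym (v := σ)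
      (mul_mem (mem_sup_left htU) hsH) hσ1
    clear_value σ
    have hs_of : ∀ v : V, s • v = t • σ • v := fun v => by rw [hσ, mul_smul, htt]
    have hs_t : ∀ v : V, s • t • v = σ⁻¹ • v := fun v => by
      rw [hσ, mul_inv_rev, htinv, mul_smul, inv_eq_of_mul_eq_one_left hss]
    have eA : (ψ * t * ψ⁻¹) • p = t • σ • y⁻¹ • σ • p := by
      rw [mul_smul, mul_smul, hψy', hs_of p, hfix1 _ (hσT p hp), htt, hψy, hs_of]
    have eB : (ψ * t * ψ⁻¹) • t • p = σ⁻¹ • y • σ⁻¹ • p := by
      rw [mul_smul, mul_smul, hψy', hs_t p, hψy, hfix1' _ (hy.smul_mem (hσT' p hp)), hs_t]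
    have e : σ • y⁻¹ • σ • σ • y⁻¹ • σ • p = p := by
      have e0 := hX p
      rw [eA, eB, htt] at e0
      rw [← e0, smul_inv_smul, inv_smul_smul, smul_inv_smul]
    have hy2p : ∀ x ∈ plane 2 y, y • y • x = -x := fun x hx => by
      rw [← mul_smul, ← pow_two]
      exact mem_plane.1 hx
    have hyi : ∀ x ∈ plane 2 y, y⁻¹ • x = -(y • x) := fun x hx => by
      rw [inv_smul_eq_iff, smul_neg, hy2p x hx, neg_neg]
    have h8 : σ • σ • σ • σ • p = -p := by
      rcases hnorm with hc | hc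
      · have hc' : ∀ v : V, σ • y⁻¹ • v = y⁻¹ • σ • v := fun v => by
          rw [← mul_smul, ← mul_smul, ((show Commute σ y from mul_inv_eq_iff_eq_mul.1 hc).inv_right).eq]
        simp only [hc'] at e
        rw [inv_smul_eq_iff, inv_smul_eq_iff] at e
        rw [e, hy2p p hp]
      · have hc' : ∀ v : V, σ • y⁻¹ • v = y • σ • v := fun v => by
          rw [← mul_smul, ← mul_smul]
          congr 1
          rw [← mul_inv_eq_iff_eq_mul, show σ * y⁻¹ * σ⁻¹ = (σ * y * σ⁻¹)⁻¹ by group, hc, inv_inv]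
        have hc'' : ∀ v : V, σ • y • v = y⁻¹ • σ • v := fun v => by
          rw [← mul_smul, ← mul_smul]
          congr 1
          rw [← hc, inv_mul_cancel_right]
        simp only [hc', hc''] at e
        rw [← eq_inv_smul_iff, ← eq_inv_smul_iff] at e
        rw [e, hyi _ (hyT' p hp), smul_inv_smul]
    exact no_eighth G hq hy hσi hσT hσT' hp hp0 h8

end Cfsg.Agent.TwoLengthExponent
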