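import Cfsg.Agent.Lib.TwoLengthExponent.Taus
import Cfsg.Agent.Lib.TwoLengthExponent.Factor
import Cfsg.Agent.S0205

/-!
# The 2-length is at most the exponent

A faithful configuration of exponent `2 ^ e` has 2-length at most `e - 1`: the top group
`M / O_{2',2}(M)` is, up to a subdirect product, made of configurations of exponent `2 ^ (e-1)`.
-/

set_option autoImplicit false
set_option linter.unusedSectionVars false
set_option linter.style.haveILetI false

namespace Cfsg.Agent.TwoLengthExponent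

open Subgroup GrossTwoLength

universe u

theorem isSolvable_of_isPSolvable_two {G : Type u} [Group G] [Finite G] (hG : IsPSolvable 2 G) :
    Group.IsSolvable G := by
  haveI : Fact (Nat.Prime 2) := ⟨Nat.prime_two⟩
  obtain ⟨n, H, h0, hl, hm, hn, hs⟩ := hG
  suffices ∀ i, Group.IsSolvable (H i) by
    haveI := this (Fin.last n)
    refine Group.isSolvable_of_surjective (f := (H (Fin.last n)).subtype) ?_
    rw [← MonoidHom.range_eq_top, range_subtype, hl]
  intro i
  induction i using Fin.induction with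
  | zero =>
    rw [h0]
    infer_instance
  | succ i ih =>
    haveI := hn i.castSucc
    let f := (QuotientGroup.mk' (H i.castSucc)).comp (H i.succ).subtype
    haveI : Group.IsSolvable f.range := by
      have hc : Nat.card f.range = (H i.castSucc).relIndex (H i.succ) := by
        rw [PCore.relIndex_eq_card_map_mk', MonoidHom.range_comp, range_subtype]
      rcases hs i with ⟨m, hm'⟩ | hco
      · haveI : Group.IsNilpotent f.range := (IsPGroup.of_card (hc.trans hm')).isNilpotent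
        infer_instance
      · exact S0205.result (Nat.coprime_two_right.1 (hc ▸ hco))
    have hker : f.ker ≤ ((H i.castSucc).subgroupOf (H i.succ)) := fun x hx => by
      have hx' : ((x : G) : G ⧸ H i.castSucc) = 1 := hx
      exact (QuotientGroup.eq_one_iff (x : G)).1 hx'
    haveI : Group.IsSolvable ((H i.castSucc).subgroupOf (H i.succ)) :=
      Group.isSolvable_of_surjective (f := (Subgroup.subgroupOfEquivOfLe (hm i.castSucc_lt_succ.le)).symm.toMonoidHom)
        (MulEquiv.surjective _)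
    refine Group.isSolvable_of_ker_le_range ((H i.castSucc).subgroupOf (H i.succ)).subtype
      f.rangeRestrict ?_
    rw [MonoidHom.ker_rangeRestrict, range_subtype]
    exact hker

theorem pLengthLE_zero_of_no_two {M : Type u} [Group M] [Finite M]
    (h : ∀ x : M, x ^ 2 ^ 1 = 1 → x = 1) : PLengthLE 2 0 M := by
  haveI : Fact (Nat.Prime 2) := ⟨Nat.prime_two⟩
  rw [PCore.pLengthLE_zero_iff, Nat.coprime_two_right, Nat.odd_iff]
  by_contra hc
  obtain ⟨x, hx⟩ := exists_prime_orderOf_dvd_card' 2 (G := M) (Nat.dvd_of_mod_eq_zero (by omega))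
  rw [h x (by rw [pow_one, ← hx, pow_orderOf_eq_one]), orderOf_one] at hx
  omega

/-- An element of odd order trivial on the chief factors of an interval is trivial on the interval. -/
theorem descend {Γ : Type u} [Group Γ] [Finite Γ] {U : Subgroup Γ} (hU : IsPGroup 2 U) {g : Γ}
    (hg : (orderOf g).Coprime 2) : ∀ X Y : Subgroup Γ, X.Normal → Y.Normal → Y ≤ X → X ≤ U →
    (∀ X' Y' : Subgroup Γ, X'.Normal → Y'.Normal → Y ≤ Y' → Y' < X' → X' ≤ X →
      (∀ Z : Subgroup Γ, Z.Normal → Y' ≤ Z → Z ≤ X' → Z = Y' ∨ Z = X') →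
        ∀ w ∈ X', g * w * g⁻¹ * w⁻¹ ∈ Y') →
    ∀ w ∈ X, g * w * g⁻¹ * w⁻¹ ∈ Y := by
  haveI : Fact (Nat.Prime 2) := ⟨Nat.prime_two⟩
  intro X
  induction hn : Nat.card X using Nat.strong_induction_on generalizing X with
  | _ n ih =>
  subst hn
  intro Y hX hY hYX hXU hch w hw
  rcases hYX.eq_or_lt with rfl | hlt
  · exact mul_mem (hX.conj_mem w hw g) (inv_mem hw)
  obtain ⟨Z, ⟨hZn, hYZ, hZX⟩, hmax⟩ := (Set.toFinite {Z : Subgroup Γ | Z.Normal ∧ Y ≤ Z ∧
    Z < X}).exists_maximal ⟨Y, hY, le_rfl, hlt⟩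
  have hwZ : g * w * g⁻¹ * w⁻¹ ∈ Z := hch X Z hX hZn hYZ hZX le_rfl (fun W hW hZW hWX => by
    rcases hWX.eq_or_lt with h | h
    · exact Or.inr h
    · exact Or.inl (le_antisymm (hmax ⟨hW, hYZ.trans hZW, h⟩ hZW) hZW)) w hw
  have hlt' : Nat.card Z < Nat.card X := lt_of_le_of_ne (card_le_of_le hZX.le) fun h =>
    hZX.ne (Subgroup.eq_of_le_of_card_ge hZX.le h.ge)
  have hrec := ih _ hlt' Z rfl Y hZn hY hYZ (hZX.le.trans hXU)
    fun X' Y' h1 h2 h3 h4 h5 => hch X' Y' h1 h2 h3 h4 (h5.trans hZX.le)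
  -- coprime action modulo `Y`
  haveI := hY
  set q := QuotientGroup.mk' Y with hq
  set d := w⁻¹ * (g * w * g⁻¹) with hd
  have hdZ : d ∈ Z := by
    have := hZn.conj_mem _ hwZ w⁻¹
    rwa [show w⁻¹ * (g * w * g⁻¹ * w⁻¹) * w⁻¹⁻¹ = d by rw [hd]; group] at this
  have hgd : q g * q d = q d * q g := by
    have h1 : q (g * d * g⁻¹ * d⁻¹) = 1 := (QuotientGroup.eq_one_iff _).2 (hrec d hdZ)
    rw [map_mul, map_mul, map_mul, map_inv, map_inv, mul_inv_eq_one, mul_inv_eq_iff_eq_mul] at h1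
    exact h1
  obtain ⟨md, hmd⟩ := hU ⟨d, hXU (hZX.le hdZ)⟩
  have hco : (orderOf (q d)).Coprime (orderOf (q g)) :=
    ((Nat.Coprime.pow_left md hg.symm).coprime_dvd_left ((orderOf_map_dvd q d).trans
      (orderOf_dvd_of_pow_eq_one (congrArg Subtype.val hmd)))).coprime_dvd_right (orderOf_map_dvd q g)
  have h2 : q d = 1 := FittingHeight.eq_one_of_conj_eq_mul (x := q w) (c := q g) hco
    (by rw [hd]; simp only [map_mul, map_inv]; group) hgd
  have := (QuotientGroup.eq_one_iff d).1 h2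
  have h3 := hY.conj_mem _ this w
  rwa [show w * d * w⁻¹ = g * w * g⁻¹ * w⁻¹ by rw [hd]; group] at h3

variable {M : Type u} [Group M] [Finite M] [Group.IsSolvable M]

/-- The top group is made of configurations of smaller exponent. -/
theorem pLengthLE_top {d : ℕ} {ρ : M →* Module.End K2 (Fin d → K2)}
    (hfaith : ∀ m : M, ρ m = 1 → m = 1) (hO : pCore 2 M = ⊥) {f : ℕ}
    (hall : ∀ (x : M) (n : ℕ), x ^ 2 ^ n = 1 → x ^ 2 ^ (f + 1) = 1 ∧ CyclicSumZero ρ x (f + 1) ⊤)
    {ℓ : ℕ} (ih : ∀ (T : Type u) [Group T] [Finite T] [Group.IsSolvable T], IsConfig T f →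
      PLengthLE 2 ℓ T) :
    PLengthLE 2 ℓ (M ⧸ pPrimePCore 2 M) := by
  classical
  haveI : Fact (Nat.Prime 2) := ⟨Nat.prime_two⟩
  set N := pPrimeCore 2 M with hN
  set K := pPrimePCore 2 M with hK
  haveI hKn : K.Normal := PCore.pPrimePCore_normal
  set π := QuotientGroup.mk' K with hπ
  have hπs : Function.Surjective π := QuotientGroup.mk'_surjective K
  have hX2 : pCore 2 (M ⧸ K) = ⊥ := by
    let f : M ⧸ N →* M ⧸ K := QuotientGroup.map N K (MonoidHom.id M) PCore.pPrimeCore_le_pPrimePCore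
    have hfs : Function.Surjective f := fun u => by
      obtain ⟨m, rfl⟩ := hπs u
      exact ⟨(m : M ⧸ N), rfl⟩
    have hker : f.ker ≤ pCore 2 (M ⧸ N) := by
      intro u hu
      obtain ⟨m, rfl⟩ := QuotientGroup.mk'_surjective N u
      exact ((QuotientGroup.eq_one_iff m).1 hu : m ∈ K)
    haveI : ((pCore 2 (M ⧸ K)).comap f).Normal := Normal.comap inferInstance f
    have hp : IsPGroup 2 ((pCore 2 (M ⧸ K)).comap f) :=
      (PCore.isPGroup_pCore (p := 2) (G := M ⧸ K)).comap_of_ker_isPGroup f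
        ((PCore.isPGroup_pCore (p := 2) (G := M ⧸ N)).to_le hker)
    refine (eq_bot_iff_forall _).2 fun u hu => ?_
    obtain ⟨w, rfl⟩ := hfs u
    obtain ⟨m, rfl⟩ := QuotientGroup.mk'_surjective N w
    exact (QuotientGroup.eq_one_iff m).2 (PCore.le_pCore hp hu : m ∈ K)
  obtain ⟨PK⟩ := (inferInstance : Nonempty (Sylow 2 K))
  set U := (PK : Subgroup K).map K.subtype with hUdef
  have hU2 : IsPGroup 2 U := PK.2.map _
  have hUK : U ≤ K := map_subtype_le _
  set M1 := normalizer (U : Set M) with hM1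
  have hsurj : Function.Surjective (π.comp M1.subtype) := fun u => by
    obtain ⟨m, rfl⟩ := hπs u
    obtain ⟨n, hn, b, hb, hnb⟩ := (mem_sup_of_normal_right (s := M1) (t := K)).1
      ((Sylow.normalizer_sup_eq_top PK).ge (mem_top m))
    refine ⟨⟨n, hn⟩, ?_⟩
    show π n = π m
    rw [← hnb, map_mul, show π b = 1 from (QuotientGroup.eq_one_iff b).2 hb, mul_one]
  -- the involutions
  have htau : ∀ x ∈ M1, ∀ n : ℕ, x ^ 2 ^ n = 1 → x ^ 2 ^ f ∈ U := by
    intro x hx n hn
    set t := x ^ 2 ^ f with ht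
    have htK : t ∈ K := by
      have := tau_mem_pPrimePCore ρ hfaith hO (e := f + 1) (by omega) hall hn
      rwa [Nat.add_sub_cancel] at this
    have htn : t ∈ M1 := pow_mem hx _
    have h2 : IsPGroup 2 (U ⊔ zpowers t : Subgroup M) :=
      isPGroup_sup_zpowers hU2 (fun u hu => (mem_normalizer_iff.1 htn u).1 hu)
        (show t ^ 2 ^ n = 1 by rw [ht, ← pow_mul, mul_comm, pow_mul, hn, one_pow])
    have hle : (PK : Subgroup K) ≤ (U ⊔ zpowers t).subgroupOf K := fun u hu =>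
      mem_sup_left (mem_map_of_mem _ hu)
    have he := PK.3 h2.comap_subtype hle
    exact ⟨⟨t, htK⟩, he.le (mem_sup_right (mem_zpowers t) : (⟨t, htK⟩ : K) ∈ (U ⊔ zpowers t).subgroupOf K), rfl⟩
  have D : Data ρ U (f + 1) := ⟨inferInstance, hfaith, hO, by omega, hall, hU2,
    fun x hx n hn => by rw [Nat.add_sub_cancel]; exact htau x hx n hn⟩
  set A := tauGroup U (f + 1) with hA
  set B := omegaCenter A with hB
  have hM1A : M1 ≤ normalizer (A : Set M) := normalizer_le_normalizer_tauGroup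
  have hAU : A ≤ U := D.tauGroup_le
  -- inside the normaliser
  set U' := U.subgroupOf M1 with hU'
  set A' := A.subgroupOf M1 with hA'
  set B' := B.subgroupOf M1 with hB'
  haveI hU'n : U'.Normal := normal_in_normalizer
  haveI hA'n : A'.Normal := ⟨fun a ha g => (mem_normalizer_iff.1 (hM1A g.2) _).1 ha⟩
  haveI hB'n : B'.Normal := ⟨fun a ha g => conj_mem_omegaCenter (hM1A g.2) ha⟩
  have hU'2 : IsPGroup 2 U' := hU2.comap_subtype
  have hA'U : A' ≤ U' := fun a ha => hAU ha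
  have hB'A : B' ≤ A' := fun a ha => omegaCenter_le A ha
  have hval : ∀ {x : M1} {n : ℕ}, x ^ 2 ^ n = 1 → (x : M) ^ 2 ^ n = 1 := fun h => congrArg Subtype.val h
  have htA : ∀ (x : M1) (n : ℕ), x ^ 2 ^ n = 1 → (x : M) ^ 2 ^ f ∈ A := fun x n hn =>
    subset_closure ⟨x, x.2, ⟨n, hval hn⟩, by rw [Nat.add_sub_cancel]⟩
  have hpow : ∀ (x : M1) (n : ℕ), x ^ 2 ^ n = 1 → x ^ 2 ^ f ∈ U' := fun x n hn =>
    hAU (htA x n hn)
  -- the three segments
  have hsum1 : ∀ w ∈ U', ∀ (x : M1) (n : ℕ), x ^ 2 ^ n = 1 →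
      (w * x) ^ 2 ^ f * (x ^ 2 ^ f)⁻¹ ∈ A' := by
    intro w hw x n hn
    obtain ⟨m, hm⟩ := two_element_mul hU2 x.2 (hval hn) hw
    exact mul_mem (htA (w * x) m (Subtype.ext hm)) (inv_mem (htA x n hn))
  have hsum2 : ∀ w ∈ A', ∀ (x : M1) (n : ℕ), x ^ 2 ^ n = 1 →
      (w * x) ^ 2 ^ f * (x ^ 2 ^ f)⁻¹ ∈ B' := by
    intro w hw x n hn
    have h := D.tau_mul_mem hw x.2 (hval hn)
    rw [Nat.add_sub_cancel] at h
    show ((w : M) * x) ^ 2 ^ f * ((x : M) ^ 2 ^ f)⁻¹ ∈ B
    rwa [inv_eq_of_mul_eq_one_left (show (x : M) ^ 2 ^ f * (x : M) ^ 2 ^ f = 1 by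
      simpa using D.tau_sq (hval hn))]
  have hsum3 : ∀ w ∈ B', ∀ (x : M1) (n : ℕ), x ^ 2 ^ n = 1 →
      (w * x) ^ 2 ^ f * (x ^ 2 ^ f)⁻¹ ∈ (⊥ : Subgroup M1) := by
    intro w hw x n hn
    have h := D.tau_eq hw x.2 (hval hn)
    rw [Nat.add_sub_cancel] at h
    rw [mem_bot, mul_inv_eq_one]
    exact Subtype.ext h
  -- the factors
  let ι := {p : Subgroup M1 × Subgroup M1 // IsSumFactor U' f p.1 p.2}
  choose C hCn hCtriv hCconf using fun i : ι => i.2.exists_config hU'2 hpow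
  set C0 : Subgroup M1 := ⨅ i, C i with hC0
  haveI hC0n : C0.Normal := normal_iInf_normal hCn
  -- odd elements of the joint kernel
  have hodd : ∀ g ∈ C0, (orderOf g).Coprime 2 → (g : M) ∈ K := by
    intro g hg hgo
    have hseg : ∀ X Y : Subgroup M1, X.Normal → Y.Normal → Y ≤ X → X ≤ U' →
        (∀ w ∈ X, ∀ (x : M1) (n : ℕ), x ^ 2 ^ n = 1 → (w * x) ^ 2 ^ f * (x ^ 2 ^ f)⁻¹ ∈ Y) →
        ∀ w ∈ X, g * w * g⁻¹ * w⁻¹ ∈ Y := fun X Y hX hY hYX hXU hs =>
      descend hU'2 hgo X Y hX hY hYX hXU fun X' Y' h1 h2 h3 h4 h5 h6 w hw =>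
        hCtriv ⟨(X', Y'), ⟨h1, h2, h4, h5.trans hXU, h6, fun v hv x n hn =>
          h3 (hs v (h5 hv) x n hn)⟩⟩ g (mem_iInf.1 hg _) w hw
    have h1 := hseg U' A' hU'n hA'n hA'U le_rfl hsum1
    have h2 := hseg A' B' hA'n hB'n hB'A hA'U hsum2
    have h3 := hseg B' ⊥ hB'n inferInstance bot_le (hB'A.trans hA'U) hsum3
    have hstab : ∀ X Y : Subgroup M1, X ≤ U' → X.Normal → Y.Normal → Y ≤ X →
        (∀ w ∈ X, g * w * g⁻¹ * w⁻¹ ∈ Y) → (∀ w ∈ Y, g * w = w * g) → ∀ w ∈ X, g * w = w * g := by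
      intro X Y hXU hX hY hYX hXY hYc w hw
      have hdY : w⁻¹ * (g * w * g⁻¹) ∈ Y := by
        have := hY.conj_mem _ (hXY w hw) w⁻¹
        rwa [show w⁻¹ * (g * w * g⁻¹ * w⁻¹) * w⁻¹⁻¹ = w⁻¹ * (g * w * g⁻¹) by group] at this
      obtain ⟨md, hmd⟩ := hU'2 ⟨_, hXU (hYX hdY)⟩
      have hd1 : w⁻¹ * (g * w * g⁻¹) = 1 := FittingHeight.eq_one_of_conj_eq_mul (x := w) (c := g)
        ((Nat.Coprime.pow_left md hgo.symm).coprime_dvd_left
          (orderOf_dvd_of_pow_eq_one (congrArg Subtype.val hmd)))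
        (by rw [mul_inv_cancel_left]) (hYc _ hdY)
      exact mul_inv_eq_iff_eq_mul.1 (inv_mul_eq_one.1 hd1).symm
    have hB1 : ∀ w ∈ B', g * w = w * g := fun w hw => by
      have := h3 w hw
      rwa [mem_bot, mul_inv_eq_one, mul_inv_eq_iff_eq_mul] at this
    have hcent := hstab U' A' le_rfl hU'n hA'n hA'U h1 (hstab A' B' hA'U hA'n hB'n hB'A h2 hB1)
    -- hence in `K`
    have hC : ((g : M) : M ⧸ N) ∈ centralizer (pCore 2 (M ⧸ N) : Set (M ⧸ N)) := by
      refine mem_centralizer_iff.2 fun u hu => ?_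
      let φ : K →* pCore 2 (M ⧸ N) :=
        ((QuotientGroup.mk' N).comp K.subtype).codRestrict (pCore 2 (M ⧸ N)) fun b => b.2
      have hφs : Function.Surjective φ := by
        rintro ⟨w, hw⟩
        obtain ⟨m, rfl⟩ := QuotientGroup.mk'_surjective N w
        exact ⟨⟨m, hw⟩, rfl⟩
      obtain ⟨b, hb, hbu⟩ :=
        (map_eq_of_isPGroup_image φ hφs PCore.isPGroup_pCore PK).ge (mem_top ⟨u, hu⟩)
      have hbv : ((b : M) : M ⧸ N) = u := congrArg Subtype.val hbu
      have hbU : (b : M) ∈ U := ⟨b, hb, rfl⟩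
      have hgb : (g : M) * b = (b : M) * g :=
        congrArg Subtype.val (hcent ⟨b, le_normalizer hbU⟩ hbU)
      rw [← hbv, ← QuotientGroup.mk_mul, ← QuotientGroup.mk_mul, hgb]
    exact PCore.centralizer_pCore_le_of_isSolvable PCore.pPrimeCore_quotient_self_eq_bot hC
  -- the joint kernel lies in `K`
  set φ := π.comp M1.subtype with hφ
  have hC0K : C0 ≤ φ.ker := by
    haveI : (C0.map φ).Normal := hC0n.map φ hsurj
    have hp : IsPGroup 2 (C0.map φ) := by
      rintro ⟨_, c, hc, rfl⟩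
      obtain ⟨a, b, hb, hord⟩ := Nat.exists_eq_pow_mul_and_not_dvd (orderOf_pos c).ne' 2 (by norm_num)
      refine ⟨a, Subtype.ext ?_⟩
      show φ c ^ 2 ^ a = 1
      rw [← map_pow]
      have ho : (orderOf (c ^ 2 ^ a)).Coprime 2 := by
        rw [orderOf_pow' _ (pow_ne_zero _ two_ne_zero), hord, Nat.gcd_eq_right (dvd_mul_right _ _),
          Nat.mul_div_cancel_left _ (Nat.two_pow_pos a), Nat.coprime_two_right, Nat.odd_iff]
        omega
      exact (QuotientGroup.eq_one_iff _).2 (hodd _ (pow_mem hc _) ho)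
    intro c hc
    have := PCore.le_pCore hp (mem_map_of_mem φ hc)
    rwa [hX2, mem_bot] at this
  have hsub : PLengthLE 2 ℓ (M1 ⧸ C0) := by
    refine PCore.pLengthLE_of_subdirect (ι := ι) (K := fun i => M1 ⧸ C i)
      (fun i => QuotientGroup.map C0 (C i) (MonoidHom.id M1) (iInf_le C i))
      (fun i u => ?_) (fun u hu => ?_) fun i => ?_
    · obtain ⟨m, rfl⟩ := QuotientGroup.mk'_surjective (C i) u
      exact ⟨(m : M1 ⧸ C0), rfl⟩
    · obtain ⟨m, rfl⟩ := QuotientGroup.mk'_surjective C0 u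
      exact (QuotientGroup.eq_one_iff m).2 (mem_iInf.2 fun i => (QuotientGroup.eq_one_iff m).1 (hu i))
    · haveI := hCn i
      exact ih _ (hCconf i)
  exact PCore.pLengthLE_of_surjective (QuotientGroup.lift C0 φ hC0K)
    (fun u => by obtain ⟨m, rfl⟩ := hsurj u; exact ⟨(m : M1 ⧸ C0), rfl⟩) hsub

theorem pLengthLE_config : ∀ (n : ℕ) {M : Type u} [Group M] [Finite M] [Group.IsSolvable M] {e : ℕ},
    e ≤ n + 1 → IsConfig M e → PLengthLE 2 n M := by
  haveI : Fact (Nat.Prime 2) := ⟨Nat.prime_two⟩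
  intro n
  induction n with
  | zero =>
    intro M _ _ _ e he hM
    obtain ⟨d, ρ, hfaith, -, hall⟩ := hM
    refine pLengthLE_zero_of_no_two fun x hx => ?_
    obtain ⟨hxe, hsum⟩ := hall x 1 hx
    rcases Nat.eq_zero_or_pos e with rfl | hpos
    · simpa using hxe
    obtain rfl : e = 1 := by omega
    refine hfaith x (LinearMap.ext fun v => ?_)
    have h := hsum v Submodule.mem_top
    rw [pow_one, Finset.sum_range_succ, Finset.sum_range_one, pow_zero, pow_one, map_one,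
      Module.End.one_apply] at h
    rw [Module.End.one_apply, eq_neg_of_add_eq_zero_right h, ← neg_one_smul K2 v, CharTwo.neg_eq,
      one_smul]
  | succ n ih =>
    intro M _ _ _ e he hM
    rcases Nat.lt_or_ge e 2 with he2 | he2
    · exact PCore.pLengthLE_mono (Nat.le_succ n) (ih (by omega) hM)
    obtain ⟨d, ρ, hfaith, hO, hall⟩ := hM
    obtain ⟨f, rfl⟩ : ∃ f, e = f + 1 := ⟨e - 1, by omega⟩
    have htop := pLengthLE_top hfaith hO hall (ℓ := n)
      fun T _ _ _ hT => ih (by omega) hT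
    refine PCore.pLengthLE_of_ker_le_pPrimeCore (QuotientGroup.mk' (pPrimeCore 2 M))
      (QuotientGroup.mk'_surjective _) (QuotientGroup.ker_mk' _).le ?_
    set g := QuotientGroup.map (pPrimeCore 2 M) (pPrimePCore 2 M) (MonoidHom.id M)
      PCore.pPrimeCore_le_pPrimePCore
    have hgs : Function.Surjective g := fun u => by
      obtain ⟨m, rfl⟩ := QuotientGroup.mk'_surjective _ u
      exact ⟨(m : M ⧸ pPrimeCore 2 M), rfl⟩
    have hker : g.ker ≤ pCore 2 (M ⧸ pPrimeCore 2 M) := by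
      intro u hu
      obtain ⟨m, rfl⟩ := QuotientGroup.mk'_surjective (pPrimeCore 2 M) u
      exact ((QuotientGroup.eq_one_iff m).1 hu : m ∈ pPrimePCore 2 M)
    exact PCore.pLengthLE_succ_of_isPGroup_ker g hgs hker htop

/-- The configuration of `G / O_2(G)` when `O_{2'}(G) = 1`. -/
theorem isConfig_of_reduced {G : Type u} [Group G] [Finite G] [Group.IsSolvable G] {e : ℕ}
    (hbot : pPrimeCore 2 G = ⊥) (hexp : ∀ P : Sylow 2 G, ∀ x ∈ (P : Subgroup G), x ^ 2 ^ e = 1) :
    IsConfig (G ⧸ pCore 2 G) e := by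
  classical
  haveI : Fact (Nat.Prime 2) := ⟨Nat.prime_two⟩
  set O := pCore 2 G with hO
  have hOp : IsPGroup 2 O := PCore.isPGroup_pCore
  haveI hOn : O.Normal := PCore.pCore_normal
  set Φ := (frattini O).map O.subtype with hΦ
  haveI hΦn : Φ.Normal := by rw [hΦ]; infer_instance
  obtain ⟨hΦO, ⟨hVc, hVexp⟩, -, hVcen⟩ :=
    HallHigman.frattini_quotient_facts PCore.isPSolvable_of_isSolvable hbot Φ rfl
  set f := QuotientGroup.mk' Φ with hf
  set V := O.map f with hV
  haveI : V.Normal := hOn.map f (QuotientGroup.mk'_surjective _)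
  letI : CommGroup V := { (inferInstance : Group V) with mul_comm := fun a b => hVc.is_comm.comm a b }
  obtain ⟨d, R, hR⟩ := FittingHeight.exists_endRepresentation (V := Additive V) 2 (fun w => by
    show Additive.ofMul (Additive.toMul w ^ 2) = 0
    rw [show Additive.toMul w ^ 2 = 1 from Subtype.ext (hVexp _ (Additive.toMul w).2)]
    rfl)
  let toEnd : MulAut V →* AddMonoid.End (Additive V) :=
    { toFun := fun a => MonoidHom.toAdditive a.toMonoidHom
      map_one' := AddMonoidHom.ext fun _ => rfl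
      map_mul' := fun _ _ => AddMonoidHom.ext fun _ => rfl }
  let act : G →* MulAut V := (MulAut.conjNormal (H := V)).comp f
  have hact : ∀ (g : G) (w : V), ((act g w : V) : G ⧸ Φ) = f g * w * (f g)⁻¹ := fun g w => rfl
  have hactO : ∀ g ∈ O, act g = 1 := fun g hg => MulEquiv.ext fun w => Subtype.ext (by
    show ((act g w : V) : G ⧸ Φ) = w
    rw [hact]
    have h1 : f g * w = w * f g :=
      congrArg Subtype.val (mul_comm (⟨f g, mem_map_of_mem f hg⟩ : V) w)
    rw [h1, mul_inv_cancel_right])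
  let actM : G ⧸ O →* MulAut V := QuotientGroup.lift O act fun g hg => hactO g hg
  let ρ : G ⧸ O →* Module.End K2 (Fin d → K2) := R.toMonoidHom.comp (toEnd.comp actM)
  have hfaith : ∀ m : G ⧸ O, ρ m = 1 → m = 1 := by
    intro m hm
    induction m using QuotientGroup.induction_on with | _ g => ?_
    have h1 : toEnd (act g) = 1 := hR (hm.trans (map_one R).symm)
    rw [QuotientGroup.eq_one_iff]
    have hgV : f g ∈ centralizer (V : Set (G ⧸ Φ)) := mem_centralizer_iff.2 fun w hw => by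
      have h2 : act g ⟨w, hw⟩ = ⟨w, hw⟩ :=
        congrArg Additive.toMul (DFunLike.congr_fun h1 (Additive.ofMul (⟨w, hw⟩ : V)))
      have h3 : f g * w * (f g)⁻¹ = w := congrArg Subtype.val h2
      exact (mul_inv_eq_iff_eq_mul.1 h3).symm
    obtain ⟨o, ho, hog⟩ := hVcen hgV
    have hm' : o⁻¹ * g ∈ O := hΦO (QuotientGroup.eq.1 hog)
    have := mul_mem ho hm'
    rwa [mul_inv_cancel_left] at this
  refine ⟨d, ρ, hfaith, PCore.pCore_quotient_self_eq_bot, fun m a hm => ?_⟩
  have hlift : ∀ (g : G) (m : ℕ), ((g : G ⧸ O)) ^ 2 ^ m = 1 → g ^ 2 ^ e = 1 := by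
    intro g m hg
    have hm : g ^ 2 ^ m ∈ O := (QuotientGroup.eq_one_iff _).1 hg
    obtain ⟨b, hb⟩ := hOp ⟨_, hm⟩
    refine pow_eq_one_of_exponent hexp (n := m + b) ?_
    rw [pow_add, pow_mul]
    exact congrArg Subtype.val hb
  induction m using QuotientGroup.induction_on with | _ g => ?_
  have hge := hlift g a hm
  refine ⟨by rw [← QuotientGroup.mk_pow, hge, QuotientGroup.mk_one], fun w _ => ?_⟩
  have key : ∑ i ∈ Finset.range (2 ^ e), toEnd (act (g ^ i)) = 0 := by
    refine AddMonoidHom.ext fun z => ?_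
    refine (AddMonoidHom.finsetSum_apply _ _ _).trans ?_
    show ∑ i ∈ Finset.range (2 ^ e), Additive.ofMul (act (g ^ i) (Additive.toMul z)) = 0
    rw [← ofMul_prod]
    refine Additive.toMul.injective ?_
    show ∏ i ∈ Finset.range (2 ^ e), act (g ^ i) (Additive.toMul z) = 1
    set w' : V := Additive.toMul z
    have hid : ∀ n : ℕ, ((w' : G ⧸ Φ) * f g) ^ n =
        ((∏ i ∈ Finset.range n, act (g ^ i) w' : V) : G ⧸ Φ) * f g ^ n := by
      intro n
      induction n with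
      | zero => simp
      | succ n ih =>
        rw [pow_succ, ih, Finset.prod_range_succ, Subgroup.coe_mul, hact, map_pow, pow_succ (f g)]
        simp only [mul_assoc, inv_mul_cancel_left]
    obtain ⟨o, ho, how⟩ := w'.2
    have h0 : (o * g) ^ 2 ^ e = 1 := hlift _ a (by
      rw [QuotientGroup.mk_mul, (QuotientGroup.eq_one_iff o).2 ho, one_mul]; exact hm)
    have h1 := hid (2 ^ e)
    rw [← map_pow f g, hge, map_one, mul_one, ← how, ← map_mul, ← map_pow, h0, map_one] at h1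
    exact Subtype.ext h1.symm
  have h2 : ∑ i ∈ Finset.range (2 ^ e), ρ ((g : G ⧸ O) ^ i) = 0 := by
    have : ∀ i : ℕ, ρ ((g : G ⧸ O) ^ i) = R (toEnd (act (g ^ i))) := fun i => by
      rw [← QuotientGroup.mk_pow]; rfl
    simp only [this]
    rw [← map_sum, key, map_zero]
  rw [← LinearMap.sum_apply, h2, LinearMap.zero_apply]

/-- The 2-length is at most the exponent. -/
theorem pLengthLE_exponent {G : Type u} [Group G] [Finite G] (hG : Group.IsSolvable G) (e : ℕ)
    (hexp : ∀ P : Sylow 2 G, ∀ x ∈ (P : Subgroup G), x ^ 2 ^ e = 1) : PLengthLE 2 e G := by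
  haveI : Fact (Nat.Prime 2) := ⟨Nat.prime_two⟩
  haveI := hG
  rcases Nat.eq_zero_or_pos e with rfl | he
  · exact pLengthLE_zero_of_no_two fun x hx => by
      simpa using pow_eq_one_of_exponent hexp hx
  obtain ⟨n, rfl⟩ : ∃ n, e = n + 1 := ⟨e - 1, by omega⟩
  refine PCore.pLengthLE_of_ker_le_pPrimeCore (QuotientGroup.mk' (pPrimeCore 2 G))
    (QuotientGroup.mk'_surjective _) (QuotientGroup.ker_mk' _).le ?_
  have hexp0 := exponent_map _ (QuotientGroup.mk'_surjective (pPrimeCore 2 G)) hexp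
  have hbot : pPrimeCore 2 (G ⧸ pPrimeCore 2 G) = ⊥ := PCore.pPrimeCore_quotient_self_eq_bot
  set H := G ⧸ pPrimeCore 2 G
  exact PCore.pLengthLE_succ_of_isPGroup_ker (QuotientGroup.mk' (pCore 2 H))
    (QuotientGroup.mk'_surjective _) (QuotientGroup.ker_mk' _).le
    (pLengthLE_config n le_rfl (isConfig_of_reduced hbot hexp0))

end Cfsg.Agent.TwoLengthExponent
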