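import Cfsg.Agent.Lib.TwoLengthExponent.Geometry
import Cfsg.Agent.Lib.GrossTwoLength.Main

/-!
# The involutions `x ^ 2 ^ (e-1)`

`M` solvable, faithful in characteristic two, `O_2(M) = 1`, `x ^ 2 ^ e = 1` with zero cyclic sum for
all 2-elements, `U` a 2-group containing the `x ^ 2 ^ (e-1)` of the 2-elements `x` of its normaliser.
With `A` the subgroup these generate and `B` the elements of order two of its centre: for `a ∈ A` the
two involutions of `x` and `a x` differ by an element of `B`, and for `a ∈ B` they are equal.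
-/

set_option autoImplicit false
set_option linter.unusedSectionVars false
set_option linter.style.haveILetI false

namespace Cfsg.Agent.TwoLengthExponent

open Subgroup GrossTwoLength
open FittingHeight (weightSpace wStab centralizer_le_wStab)
open scoped commutatorElement

theorem mul_pow_mem {X : Type*} [Group X] {W : Subgroup X} {x : X}
    (hx : ∀ w ∈ W, x * w * x⁻¹ ∈ W) {w : X} (hw : w ∈ W) :
    ∀ n : ℕ, (w * x) ^ n * (x ^ n)⁻¹ ∈ W
  | 0 => by simp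
  | n + 1 => by
    rw [show (w * x) ^ (n + 1) * (x ^ (n + 1))⁻¹ =
      w * (x * ((w * x) ^ n * (x ^ n)⁻¹) * x⁻¹) by rw [pow_succ', pow_succ']; group]
    exact mul_mem hw (hx _ (mul_pow_mem hx hw n))

theorem two_element_mul {X : Type*} [Group X] [Finite X] {W : Subgroup X} (hW : IsPGroup 2 W) {x : X}
    (hx : x ∈ normalizer (W : Set X)) {n : ℕ} (hn : x ^ 2 ^ n = 1) {w : X} (hw : w ∈ W) :
    ∃ m, (w * x) ^ 2 ^ m = 1 := by
  have h : (w * x) ^ 2 ^ n ∈ W := by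
    simpa [hn] using mul_pow_mem (fun u hu => (mem_normalizer_iff.1 hx u).1 hu) hw (2 ^ n)
  obtain ⟨b, hb⟩ := hW ⟨_, h⟩
  exact ⟨n + b, by rw [pow_add, pow_mul]; exact congrArg Subtype.val hb⟩

variable {M : Type*} [Group M] [Finite M] {k : Type*} [Field k]
  [IsAlgClosed k] [CharP k 2] {E : Type*} [AddCommGroup E] [Module k E] [FiniteDimensional k E]

/-- The involutions of the 2-elements normalising `U`. -/
def tauGens (U : Subgroup M) (e : ℕ) : Set M :=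
  {t | ∃ x ∈ normalizer (U : Set M), (∃ n : ℕ, x ^ 2 ^ n = 1) ∧ x ^ 2 ^ (e - 1) = t}

/-- The subgroup they generate. -/
def tauGroup (U : Subgroup M) (e : ℕ) : Subgroup M := closure (tauGens U e)

/-- The central elements of order two of a subgroup. -/
def omegaCenter (A : Subgroup M) : Subgroup M where
  carrier := {b | b ∈ A ∧ b ∈ centralizer (A : Set M) ∧ b * b = 1}
  one_mem' := ⟨one_mem _, one_mem _, one_mul 1⟩
  mul_mem' := fun {a b} ha hb => ⟨mul_mem ha.1 hb.1, mul_mem ha.2.1 hb.2.1, by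
    rw [show a * b * (a * b) = a * (b * a) * b by group, mem_centralizer_iff.1 ha.2.1 b hb.1,
      show a * (a * b) * b = a * a * (b * b) by group, ha.2.2, hb.2.2, one_mul]⟩
  inv_mem' := fun {a} ha => ⟨inv_mem ha.1, inv_mem ha.2.1, by
    rw [← mul_inv_rev, ha.2.2, inv_one]⟩

theorem mem_omegaCenter {A : Subgroup M} {b : M} :
    b ∈ omegaCenter A ↔ b ∈ A ∧ b ∈ centralizer (A : Set M) ∧ b * b = 1 := Iff.rfl

theorem omegaCenter_le (A : Subgroup M) : omegaCenter A ≤ A := fun _ h => h.1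

theorem conj_mem_omegaCenter {A : Subgroup M} {g : M} (hg : g ∈ normalizer (A : Set M)) {b : M}
    (hb : b ∈ omegaCenter A) : g * b * g⁻¹ ∈ omegaCenter A := by
  refine ⟨(mem_normalizer_iff.1 hg b).1 hb.1, mem_centralizer_iff.2 fun w hw => ?_, ?_⟩
  · have h' : g⁻¹ * w * g ∈ A := by
      simpa using (mem_normalizer_iff.1 (inv_mem hg) w).1 hw
    calc w * (g * b * g⁻¹) = g * (g⁻¹ * w * g * b) * g⁻¹ := by group
      _ = g * (b * (g⁻¹ * w * g)) * g⁻¹ := by rw [mem_centralizer_iff.1 hb.2.1 _ h']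
      _ = g * b * g⁻¹ * w := by group
  · rw [show g * b * g⁻¹ * (g * b * g⁻¹) = g * (b * b) * g⁻¹ by group, hb.2.2, mul_one, mul_inv_cancel]

theorem conj_mem_tauGroup {U : Subgroup M} {e : ℕ} {g : M} (hg : g ∈ normalizer (U : Set M)) {a : M}
    (ha : a ∈ tauGroup U e) : g * a * g⁻¹ ∈ tauGroup U e := by
  have : tauGroup U e ≤ (tauGroup U e).comap (MulAut.conj g).toMonoidHom := by
    refine (closure_le _).2 ?_
    rintro _ ⟨x, hx, ⟨n, hn⟩, rfl⟩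
    refine subset_closure ⟨g * x * g⁻¹, mul_mem (mul_mem hg hx) (inv_mem hg), ⟨n, ?_⟩, ?_⟩
    · rw [conj_pow, hn, mul_one, mul_inv_cancel]
    · exact conj_pow ..
  exact this ha

theorem normalizer_le_normalizer_tauGroup {U : Subgroup M} {e : ℕ} :
    normalizer (U : Set M) ≤ normalizer (tauGroup U e : Set M) := fun g hg =>
  mem_normalizer_iff.2 fun a => ⟨conj_mem_tauGroup hg, fun h => by
    have := conj_mem_tauGroup (inv_mem hg) h
    simpa [mul_assoc] using this⟩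

/-- The hypotheses. -/
structure Data (ρ : M →* Module.End k E) (U : Subgroup M) (e : ℕ) : Prop where
  solv : Group.IsSolvable M
  faith : ∀ m : M, ρ m = 1 → m = 1
  core : pCore 2 M = ⊥
  one_le : 1 ≤ e
  all : ∀ (x : M) (n : ℕ), x ^ 2 ^ n = 1 → x ^ 2 ^ e = 1 ∧ CyclicSumZero ρ x e ⊤
  two : IsPGroup 2 U
  tau_mem : ∀ x ∈ normalizer (U : Set M), ∀ n : ℕ, x ^ 2 ^ n = 1 → x ^ 2 ^ (e - 1) ∈ U

variable {ρ : M →* Module.End k E} {U : Subgroup M} {e : ℕ} (D : Data ρ U e)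

include D

theorem Data.tauGroup_le : tauGroup U e ≤ U := by
  refine (closure_le _).2 ?_
  rintro _ ⟨x, hx, ⟨n, hn⟩, rfl⟩
  exact D.tau_mem x hx n hn

theorem Data.tau_sq {x : M} {n : ℕ} (hn : x ^ 2 ^ n = 1) :
    x ^ 2 ^ (e - 1) * x ^ 2 ^ (e - 1) = 1 := by
  rw [← pow_add, ← mul_two, ← pow_succ, Nat.sub_add_cancel D.one_le, (D.all x n hn).1]

theorem Data.le_centralizer_abelian {q : ℕ} [Fact q.Prime] (hq2 : q ≠ 2) {A : Subgroup M}
    (hA : A.Normal) (hAc : IsMulCommutative A) (hAq : IsPGroup q A) :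
    tauGroup U e ≤ centralizer (A : Set M) := by
  refine (closure_le _).2 ?_
  rintro _ ⟨x, -, ⟨n, hn⟩, rfl⟩
  haveI := hA
  exact tau_centralizes ρ D.faith (D.all x n hn).1 (D.all x n hn).2 (natCast_card_ne_zero hq2 hAq)

theorem Data.le_wStab {q : ℕ} [Fact q.Prime] (hq2 : q ≠ 2) {Q Z : Subgroup M} (h : ClassTwo q Q Z)
    (χ : Z →* k) : tauGroup U e ≤ wStab k Z χ :=
  (D.le_centralizer_abelian hq2 h.normal_centre ⟨⟨fun a b => Subtype.ext
    (h.comm b.2 (h.le a.2))⟩⟩ (h.isPGroup.to_le h.le)).trans (centralizer_le_wStab χ)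

/-- An element of the group of the involutions trivial on all weights is trivial. -/
theorem Data.eq_one_of_act {s : M} (hs : s ∈ tauGroup U e)
    (h1 : ∀ (q : ℕ) (_ : Fact q.Prime) (hq2 : q ≠ 2) (Q Z : Subgroup M) (h : ClassTwo q Q Z)
      (χ : Z →* k) (v : E), v ≠ 0 → v ∈ weightSpace ρ Z χ →
      h.act χ ⟨s, D.le_wStab hq2 h χ hs⟩ = 1) : s = 1 := by
  haveI := D.solv
  haveI : Fact (Nat.Prime 2) := ⟨Nat.prime_two⟩
  obtain ⟨m, hm⟩ := D.two ⟨s, D.tauGroup_le hs⟩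
  have hsm : s ^ 2 ^ m = 1 := congrArg Subtype.val hm
  have hle : fittingSubgroup M ≤ centralizer ({s} : Set M) := by
    rw [Components.fittingSubgroup_eq_iSup_pCore]
    refine iSup_le fun ⟨q, hq⟩ => ?_
    rcases eq_or_ne q 2 with rfl | hq2
    · simp only [D.core, bot_le]
    haveI := Fact.mk (Nat.prime_of_mem_primeFactors hq)
    have hco : (orderOf s).Coprime q :=
      (((Nat.coprime_primes Nat.prime_two (Fact.out : q.Prime)).2 (Ne.symm hq2)).pow_left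
        m).coprime_dvd_left (orderOf_dvd_of_pow_eq_one hsm)
    have hmem := centralizes_of_weights ρ (natCast_ne_zero_two hq2) D.faith hco
      (fun A hA hAc hAq => D.le_centralizer_abelian hq2 hA hAc hAq hs)
      (fun Q Z h χ v hv0 hv y x hy hx =>
        h.val_eq_one_of_act χ (h1 q inferInstance hq2 Q Z h χ v hv0 hv) hy hx)
      (pCore q M) inferInstance PCore.isPGroup_pCore
    exact fun w hw => mem_centralizer_singleton_iff.2 (mem_centralizer_iff.1 hmem w hw)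
  have hF : s ∈ centralizer (fittingSubgroup M : Set M) :=
    mem_centralizer_iff.2 fun w hw => mem_centralizer_singleton_iff.1 (hle hw)
  have := Subnormal.mem_pCore_of_mem_fittingSubgroup (Components.centralizer_fittingSubgroup_le hF) hsm
  rwa [D.core, mem_bot] at this

section Weight

variable {q : ℕ} [Fact q.Prime] (hq2 : q ≠ 2) {Q Z : Subgroup M} (h : ClassTwo q Q Z) (χ : Z →* k)

/-- The image of the group of the involutions on a weight. -/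
noncomputable def Data.img (_ : Data ρ U e) (h : ClassTwo q Q Z) (χ : Z →* k) :
    Subgroup (Module.End (ZMod q) (h.pairing χ).Space)ˣ :=
  ((tauGroup U e).subgroupOf (wStab k Z χ)).map (h.act χ)

theorem Data.isPGroup_img : IsPGroup 2 (D.img h χ) :=
  ((D.two.to_le D.tauGroup_le).comap_subtype).map _

theorem Data.img_iso : ∀ g ∈ D.img h χ, FittingHeight.Plane.Iso (h.pairing χ).form g := by
  rintro _ ⟨m, -, rfl⟩
  exact h.act_iso χ m

include hq2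

theorem Data.mem_img {a : M} (ha : a ∈ tauGroup U e) :
    h.act χ ⟨a, D.le_wStab hq2 h χ ha⟩ ∈ D.img h χ :=
  ⟨⟨a, D.le_wStab hq2 h χ ha⟩, ha, rfl⟩

/-- The involution of `x` is trivial on the weight or is that of a rotation. -/
theorem Data.rot_cases {v : E} (hv0 : v ≠ 0) (hv : v ∈ weightSpace ρ Z χ) {x : M}
    (hx : x ∈ normalizer (U : Set M)) {n : ℕ} (hn : x ^ 2 ^ n = 1)
    (hτ : x ^ 2 ^ (e - 1) ∈ tauGroup U e) :
    h.act χ ⟨_, D.le_wStab hq2 h χ hτ⟩ = 1 ∨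
      ∃ (j : ℕ) (hm : x ^ 2 ^ j ∈ wStab k Z χ), j < e ∧ 2 ≤ e - j ∧ q + 1 = 2 ^ (e - j) ∧
        IsRot (h.pairing χ).form (e - j) (h.act χ ⟨x ^ 2 ^ j, hm⟩) ∧
        Conj (h.act χ ⟨x ^ 2 ^ j, hm⟩) (D.img h χ) ∧
        h.act χ ⟨_, D.le_wStab hq2 h χ hτ⟩ = tau (e - j) (h.act χ ⟨x ^ 2 ^ j, hm⟩) := by
  obtain ⟨hxe, hsum⟩ := D.all x n hn
  obtain ⟨j, hj, hm, hcase⟩ := exists_rot ρ hq2 h χ hv0 hv hxe hsum
  have e1 : h.act χ ⟨_, D.le_wStab hq2 h χ hτ⟩ =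
      tau (e - j) (h.act χ ⟨x ^ 2 ^ j, hm⟩) := by
    rw [tau, ← map_pow]
    congr 1
    refine Subtype.ext ?_
    show x ^ 2 ^ (e - 1) = (x ^ 2 ^ j) ^ 2 ^ (e - j - 1)
    rw [← pow_mul, ← pow_add, show j + (e - j - 1) = e - 1 by omega]
  rcases hcase with h1 | ⟨hd, hqd, hrot⟩
  · exact Or.inl (e1.trans h1)
  refine Or.inr ⟨j, hm, hj, hd, hqd, hrot, ?_, e1⟩
  rintro _ ⟨w, hw, rfl⟩
  refine ⟨⟨x ^ 2 ^ j, hm⟩ * w * ⟨x ^ 2 ^ j, hm⟩⁻¹, ?_, by rw [map_mul, map_mul, map_inv]⟩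
  exact conj_mem_tauGroup (pow_mem hx _) hw

/-- The power of `w x` as an element of the group of the involutions times that of `x`. -/
theorem Data.exists_psi {W : Subgroup M} (hW : W ≤ tauGroup U e) {x : M}
    (hxW : ∀ w ∈ W, x * w * x⁻¹ ∈ W) {a : M} (ha : a ∈ W) {j : ℕ}
    (hm : x ^ 2 ^ j ∈ wStab k Z χ) (hj : j < e)
    (hτ : (a * x) ^ 2 ^ (e - 1) ∈ tauGroup U e) :
    ∃ (w : M) (hw : w ∈ W) (hm' : (a * x) ^ 2 ^ j ∈ wStab k Z χ),
      h.act χ ⟨_, hm'⟩ = h.act χ ⟨w, D.le_wStab hq2 h χ (hW hw)⟩ * h.act χ ⟨_, hm⟩ ∧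
      h.act χ ⟨_, D.le_wStab hq2 h χ hτ⟩ = tau (e - j)
        (h.act χ ⟨w, D.le_wStab hq2 h χ (hW hw)⟩ * h.act χ ⟨_, hm⟩) := by
  set w := (a * x) ^ 2 ^ j * (x ^ 2 ^ j)⁻¹ with hw
  have hwW : w ∈ W := mul_pow_mem hxW ha _
  have hst : w ∈ wStab k Z χ := D.le_wStab hq2 h χ (hW hwW)
  have e0 : (a * x) ^ 2 ^ j = w * x ^ 2 ^ j := by rw [hw, inv_mul_cancel_right]
  have hm' : (a * x) ^ 2 ^ j ∈ wStab k Z χ := e0 ▸ mul_mem hst hm
  refine ⟨w, hwW, hm', ?_, ?_⟩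
  · rw [← map_mul]
    exact congrArg _ (Subtype.ext e0)
  · rw [← map_mul, tau, ← map_pow]
    congr 1
    refine Subtype.ext ?_
    show (a * x) ^ 2 ^ (e - 1) = (w * x ^ 2 ^ j) ^ 2 ^ (e - j - 1)
    rw [← e0, ← pow_mul, ← pow_add, show j + (e - j - 1) = e - 1 by omega]

/-- One half of the comparison for a central element of order two. -/
theorem Data.act_eq_of_rot {x b : M} (hb : b ∈ omegaCenter (tauGroup U e))
    (hx : x ∈ normalizer (U : Set M)) {n : ℕ} (hn : x ^ 2 ^ n = 1)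
    (hτ : x ^ 2 ^ (e - 1) ∈ tauGroup U e) (hτ' : (b * x) ^ 2 ^ (e - 1) ∈ tauGroup U e)
    {v : E} (hv0 : v ≠ 0) (hv : v ∈ weightSpace ρ Z χ)
    (hne : h.act χ ⟨_, D.le_wStab hq2 h χ hτ⟩ ≠ 1) :
    h.act χ ⟨_, D.le_wStab hq2 h χ hτ'⟩ = h.act χ ⟨_, D.le_wStab hq2 h χ hτ⟩ := by
  obtain ⟨j, hm, hj, hd, hqd, hrot, -, e1⟩ :=
    (D.rot_cases hq2 h χ hv0 hv hx hn hτ).resolve_left hne
  have G := h.form_geo χ hq2 hd hqd
  obtain ⟨w, hw, hm', -, e2⟩ := D.exists_psi hq2 h χ (omegaCenter_le _)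
    (fun c hc => conj_mem_omegaCenter (normalizer_le_normalizer_tauGroup hx) hc) hb hm hj hτ'
  set ŵ := h.act χ ⟨w, D.le_wStab hq2 h χ (omegaCenter_le _ hw)⟩ with hŵ
  set ŷ := h.act χ ⟨_, hm⟩ with hŷ
  have hw2 : ŵ * ŵ = 1 := by
    rw [hŵ, ← map_mul]
    exact (congrArg _ (Subtype.ext hw.2.2)).trans (map_one _)
  have hwc : Commute ŵ (tau (e - j) ŷ) := by
    rw [← e1, hŵ, Commute, SemiconjBy, ← map_mul, ← map_mul]
    exact congrArg _ (Subtype.ext (mem_centralizer_iff.1 hw.2.1 _ hτ).symm)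
  have hcy : Commute ŵ ŷ := commute_rot G hrot (h.act_iso χ _) hw2 hwc
  have hw1 : ŵ ^ 2 ^ (e - j - 1) = 1 := by
    rw [show 2 ^ (e - j - 1) = 2 * 2 ^ (e - j - 2) by rw [← pow_succ']; congr 1; omega,
      pow_mul, pow_two, hw2, one_pow]
  rw [e2, e1, tau, hcy.mul_pow, hw1, one_mul]

/-- The product of the involutions of `x` and `a x` when that of `x` is non-trivial. -/
theorem Data.act_pair {x a : M} (ha : a ∈ tauGroup U e)
    (hx : x ∈ normalizer (U : Set M)) {n : ℕ} (hn : x ^ 2 ^ n = 1)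
    (hx' : a * x ∈ normalizer (U : Set M)) {n' : ℕ} (hn' : (a * x) ^ 2 ^ n' = 1)
    (hτ : x ^ 2 ^ (e - 1) ∈ tauGroup U e) (hτ' : (a * x) ^ 2 ^ (e - 1) ∈ tauGroup U e)
    {v : E} (hv0 : v ≠ 0) (hv : v ∈ weightSpace ρ Z χ)
    (hne : h.act χ ⟨_, D.le_wStab hq2 h χ hτ⟩ ≠ 1) :
    Commute (h.act χ ⟨_, D.le_wStab hq2 h χ hτ⟩) (h.act χ ⟨_, D.le_wStab hq2 h χ hτ'⟩) ∧
    ∀ (z : M) (_ : z ∈ normalizer (U : Set M)) (m : ℕ) (_ : z ^ 2 ^ m = 1)
      (hz : z ^ 2 ^ (e - 1) ∈ tauGroup U e),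
      Commute (h.act χ ⟨_, D.le_wStab hq2 h χ hτ'⟩ * h.act χ ⟨_, D.le_wStab hq2 h χ hτ⟩)
        (h.act χ ⟨_, D.le_wStab hq2 h χ hz⟩) := by
  obtain ⟨j, hm, hj, hd, hqd, hrot, hconj, e1⟩ :=
    (D.rot_cases hq2 h χ hv0 hv hx hn hτ).resolve_left hne
  have G := h.form_geo χ hq2 hd hqd
  obtain ⟨w, hw, hm', e0, e2⟩ := D.exists_psi hq2 h χ le_rfl
    (fun c hc => conj_mem_tauGroup hx hc) ha hm hj hτ'
  set ψ := h.act χ ⟨w, D.le_wStab hq2 h χ hw⟩ with hψ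
  set ŷ := h.act χ ⟨_, hm⟩ with hŷ
  have hψU : ψ ∈ D.img h χ := D.mem_img hq2 h χ hw
  have hU2 := D.isPGroup_img h χ
  have hUi := D.img_iso h χ
  have hsame : ∀ {j' : ℕ}, j' < e → q + 1 = 2 ^ (e - j') → j' = j := fun hj' hq' => by
    have := Nat.pow_right_injective le_rfl (hq'.symm.trans hqd)
    omega
  rw [e1]
  rcases D.rot_cases hq2 h χ hv0 hv hx' hn' hτ' with h1 | ⟨j', hm1, hj', -, hqd', hrot', -, e1'⟩
  · rw [h1]
    refine ⟨Commute.one_right _, fun z hzn m hzm hz => ?_⟩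
    rw [one_mul]
    rcases D.rot_cases hq2 h χ hv0 hv hzn hzm hz with h3 | ⟨i, hmi, hi, -, hqi, hroti, hconji, e3⟩
    · rw [h3]; exact Commute.one_right _
    obtain rfl := hsame hi hqi
    rw [e3]
    refine tau_commute_of_pow G hU2 hUi hrot hconj hroti hconji (e3 ▸ D.mem_img hq2 h χ hz) hψU ?_
    exact e2.symm.trans h1
  obtain rfl := hsame hj' hqd'
  rw [e2]
  set y2 := ψ * ŷ with hy2
  have hy2rot : IsRot (h.pairing χ).form (e - j') y2 := e0 ▸ hrot'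
  have hH := isPGroup_sup_zpowers hU2 hconj hrot.pow
  have hHi := iso_sup_zpowers hUi hrot.iso
  have hym : ŷ ∈ D.img h χ ⊔ zpowers ŷ := mem_sup_right (mem_zpowers ŷ)
  rcases IsRot.eq_or_orth G hH hHi hym (mul_mem (mem_sup_left hψU) hym) hrot hy2rot with heq | ⟨hA, hB⟩
  · rw [← heq]
    refine ⟨Commute.refl _, fun z _ m _ hz => ?_⟩
    rw [hrot.tau_sq G]
    exact Commute.one_left _
  have hyy : Commute ŷ y2 := IsRot.comm_of_orth G hrot hy2rot hA hB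
  refine ⟨hyy.pow_pow _ _, fun z hzn m hzm hz => ?_⟩
  rcases D.rot_cases hq2 h χ hv0 hv hzn hzm hz with h3 | ⟨i, hmi, hi, -, hqi, hroti, hconji, e3⟩
  · rw [h3]; exact Commute.one_right _
  obtain rfl := hsame hi hqi
  rw [e3, ← (hyy.pow_pow _ _).eq]
  refine (tau_commute_pair G hU2 hUi hrot hy2rot hroti hconji hA hB ?_).symm
  rw [hy2, mul_inv_rev, mul_inv_cancel_left]
  exact inv_mem hψU

end Weight

/-- For central elements of order two the involution does not change. -/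
theorem Data.tau_eq {x b : M} (hb : b ∈ omegaCenter (tauGroup U e))
    (hx : x ∈ normalizer (U : Set M)) {n : ℕ} (hn : x ^ 2 ^ n = 1) :
    (b * x) ^ 2 ^ (e - 1) = x ^ 2 ^ (e - 1) := by
  have hbU := D.tauGroup_le (omegaCenter_le _ hb)
  have hx' : b * x ∈ normalizer (U : Set M) := mul_mem (le_normalizer hbU) hx
  obtain ⟨n', hn'⟩ := two_element_mul D.two hx hn hbU
  have hτ : x ^ 2 ^ (e - 1) ∈ tauGroup U e := subset_closure ⟨x, hx, ⟨n, hn⟩, rfl⟩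
  have hτ' : (b * x) ^ 2 ^ (e - 1) ∈ tauGroup U e := subset_closure ⟨_, hx', ⟨n', hn'⟩, rfl⟩
  rw [← mul_inv_eq_one]
  refine D.eq_one_of_act (mul_mem hτ' (inv_mem hτ)) fun q hqF hq2 Q Z h χ v hv0 hv => ?_
  rw [show (⟨_, D.le_wStab hq2 h χ (mul_mem hτ' (inv_mem hτ))⟩ : wStab k Z χ) =
    ⟨_, D.le_wStab hq2 h χ hτ'⟩ * ⟨_, D.le_wStab hq2 h χ hτ⟩⁻¹ from rfl, map_mul, map_inv,
    mul_inv_eq_one]
  by_cases hne : h.act χ ⟨_, D.le_wStab hq2 h χ hτ⟩ = 1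
  · by_contra hne'
    rw [hne] at hne'
    have hb2 : b⁻¹ = b := inv_eq_of_mul_eq_one_left hb.2.2
    have e3 : b * (b * x) = x := by rw [← mul_assoc, hb.2.2, one_mul]
    have hτ'' : (b * (b * x)) ^ 2 ^ (e - 1) ∈ tauGroup U e := e3.symm ▸ hτ
    have := D.act_eq_of_rot hq2 h χ hb hx' hn' hτ' hτ'' hv0 hv hne'
    refine hne' (this.symm.trans ?_)
    convert hne using 3
    exact congrArg (· ^ 2 ^ (e - 1)) e3
  · exact D.act_eq_of_rot hq2 h χ hb hx hn hτ hτ' hv0 hv hne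

/-- For elements of the group of the involutions it changes by a central element of order two. -/
theorem Data.tau_mul_mem {x a : M} (ha : a ∈ tauGroup U e)
    (hx : x ∈ normalizer (U : Set M)) {n : ℕ} (hn : x ^ 2 ^ n = 1) :
    (a * x) ^ 2 ^ (e - 1) * x ^ 2 ^ (e - 1) ∈ omegaCenter (tauGroup U e) := by
  have haU := D.tauGroup_le ha
  have hx' : a * x ∈ normalizer (U : Set M) := mul_mem (le_normalizer haU) hx
  obtain ⟨n', hn'⟩ := two_element_mul D.two hx hn haU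
  have hτ : x ^ 2 ^ (e - 1) ∈ tauGroup U e := subset_closure ⟨x, hx, ⟨n, hn⟩, rfl⟩
  have hτ' : (a * x) ^ 2 ^ (e - 1) ∈ tauGroup U e := subset_closure ⟨_, hx', ⟨n', hn'⟩, rfl⟩
  set t := x ^ 2 ^ (e - 1) with ht
  set t' := (a * x) ^ 2 ^ (e - 1) with ht'
  have htt := D.tau_sq hn
  have htt' := D.tau_sq hn'
  rw [← ht] at htt
  rw [← ht'] at htt'
  -- both facts on every weight
  have key : ∀ (q : ℕ) (_ : Fact q.Prime) (hq2 : q ≠ 2) (Q Z : Subgroup M) (h : ClassTwo q Q Z)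
      (χ : Z →* k) (v : E), v ≠ 0 → v ∈ weightSpace ρ Z χ →
      Commute (h.act χ ⟨t, D.le_wStab hq2 h χ hτ⟩) (h.act χ ⟨t', D.le_wStab hq2 h χ hτ'⟩) ∧
      ∀ (z : M) (_ : z ∈ normalizer (U : Set M)) (m : ℕ) (_ : z ^ 2 ^ m = 1)
        (hz : z ^ 2 ^ (e - 1) ∈ tauGroup U e),
        Commute (h.act χ ⟨t', D.le_wStab hq2 h χ hτ'⟩ * h.act χ ⟨t, D.le_wStab hq2 h χ hτ⟩)
          (h.act χ ⟨_, D.le_wStab hq2 h χ hz⟩) := by
    intro q hqF hq2 Q Z h χ v hv0 hv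
    by_cases hne : h.act χ ⟨t, D.le_wStab hq2 h χ hτ⟩ = 1
    · by_cases hne' : h.act χ ⟨t', D.le_wStab hq2 h χ hτ'⟩ = 1
      · rw [hne, hne', one_mul]
        exact ⟨Commute.refl _, fun _ _ _ _ _ => Commute.one_left _⟩
      have e3 : a⁻¹ * (a * x) = x := inv_mul_cancel_left a x
      have hτ'' : (a⁻¹ * (a * x)) ^ 2 ^ (e - 1) ∈ tauGroup U e := e3.symm ▸ hτ
      have hb := (D.act_pair hq2 h χ (inv_mem ha) hx' hn' (e3.symm ▸ hx) (n' := n)
        (e3.symm ▸ hn) hτ' hτ'' hv0 hv hne').2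
      have e4 : (⟨_, D.le_wStab hq2 h χ hτ''⟩ : wStab k Z χ) = ⟨t, D.le_wStab hq2 h χ hτ⟩ :=
        Subtype.ext (congrArg (· ^ 2 ^ (e - 1)) e3)
      rw [e4, hne] at hb
      rw [hne]
      refine ⟨Commute.one_left _, fun z hzn m hzm hz => ?_⟩
      have := hb z hzn m hzm hz
      rwa [one_mul, ← mul_one (h.act χ ⟨t', _⟩)] at this
    · exact D.act_pair hq2 h χ ha hx hn hx' hn' hτ hτ' hv0 hv hne
  refine ⟨mul_mem hτ' hτ, ?_, ?_⟩
  · suffices hle : tauGroup U e ≤ centralizer ({t' * t} : Set M) from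
      mem_centralizer_iff.2 fun w hw => mem_centralizer_singleton_iff.1 (hle hw)
    refine (closure_le _).2 ?_
    rintro _ ⟨z, hz, ⟨m, hm⟩, rfl⟩
    have hzA : z ^ 2 ^ (e - 1) ∈ tauGroup U e := subset_closure ⟨z, hz, ⟨m, hm⟩, rfl⟩
    refine mem_centralizer_singleton_iff.2 (commutatorElement_eq_one_iff_mul_comm.1 ?_)
    have hmem : ⁅z ^ 2 ^ (e - 1), t' * t⁆ ∈ tauGroup U e :=
      mul_mem (mul_mem (mul_mem hzA (mul_mem hτ' hτ)) (inv_mem hzA)) (inv_mem (mul_mem hτ' hτ))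
    refine D.eq_one_of_act hmem fun q hqF hq2 Q Z h χ v hv0 hv => ?_
    rw [show (⟨_, D.le_wStab hq2 h χ hmem⟩ : wStab k Z χ) =
      ⁅(⟨_, D.le_wStab hq2 h χ hzA⟩ : wStab k Z χ),
        ⟨t', D.le_wStab hq2 h χ hτ'⟩ * ⟨t, D.le_wStab hq2 h χ hτ⟩⁆ from rfl,
      map_commutatorElement, map_mul, commutatorElement_eq_one_iff_mul_comm]
    exact ((key q hqF hq2 Q Z h χ v hv0 hv).2 z hz m hm hzA).eq.symm
  · refine D.eq_one_of_act (mul_mem (mul_mem hτ' hτ) (mul_mem hτ' hτ))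
      fun q hqF hq2 Q Z h χ v hv0 hv => ?_
    rw [show (⟨_, D.le_wStab hq2 h χ (mul_mem (mul_mem hτ' hτ) (mul_mem hτ' hτ))⟩ : wStab k Z χ) =
      ⟨t', D.le_wStab hq2 h χ hτ'⟩ * ⟨t, D.le_wStab hq2 h χ hτ⟩ *
        (⟨t', D.le_wStab hq2 h χ hτ'⟩ * ⟨t, D.le_wStab hq2 h χ hτ⟩) from rfl, map_mul, map_mul]
    have hc := (key q hqF hq2 Q Z h χ v hv0 hv).1
    have h1 : h.act χ ⟨t, D.le_wStab hq2 h χ hτ⟩ * h.act χ ⟨t, D.le_wStab hq2 h χ hτ⟩ = 1 := by
      rw [← map_mul]; exact (congrArg _ (Subtype.ext htt)).trans (map_one _)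
    have h2 : h.act χ ⟨t', D.le_wStab hq2 h χ hτ'⟩ * h.act χ ⟨t', D.le_wStab hq2 h χ hτ'⟩ = 1 := by
      rw [← map_mul]; exact (congrArg _ (Subtype.ext htt')).trans (map_one _)
    set A := h.act χ ⟨t', D.le_wStab hq2 h χ hτ'⟩
    set B := h.act χ ⟨t, D.le_wStab hq2 h χ hτ⟩
    rw [show A * B * (A * B) = A * (B * A) * B by group, hc.eq,
      show A * (A * B) * B = A * A * (B * B) by group, h2, h1, one_mul]

end Cfsg.Agent.TwoLengthExponent
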